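import Cfsg.Agent.Lib.Helper5.M23Coh.Machine

/-!
# Lifting the generators of `23:11` and of `11:5` through a normal elementary abelian 2-subgroup
-/

set_option autoImplicit false

namespace Cfsg.Agent.Lib.Helper5.M23Coh

section
variable {E : Type*} [Group E]

theorem pow_mod_of_pow_eq_one {x : E} {q : ℕ} (hx : x ^ q = 1) (n : ℕ) : x ^ n = x ^ (n % q) := by
  conv_lhs => rw [← Nat.mod_add_div n q]
  rw [pow_add, pow_mul, hx, one_pow, mul_one]

theorem conj_pow_eq {g x : E} {e : ℕ} (h : g * x * g⁻¹ = x ^ e) (k : ℕ) :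
    g ^ k * x * (g ^ k)⁻¹ = x ^ (e ^ k) := by
  induction k with
  | zero => simp
  | succ k ih =>
    have : g ^ (k + 1) * x * (g ^ (k + 1))⁻¹ = g * (g ^ k * x * (g ^ k)⁻¹) * g⁻¹ := by
      rw [pow_succ']; group
    rw [this, ih, ← conj_pow, h, ← pow_mul, pow_succ']

theorem conj_pow_pow {g x : E} {e : ℕ} (h : g * x * g⁻¹ = x ^ e) (k j : ℕ) :
    g ^ k * x ^ j = x ^ (e ^ k * j) * g ^ k := by
  have h1 := conj_pow_eq h k
  have h2 : g ^ k * x ^ j * (g ^ k)⁻¹ = (x ^ (e ^ k)) ^ j := by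
    rw [← h1, conj_pow]
  rw [pow_mul, ← h2]; group

/-- the element with code `b` of the group generated by `x` and `y` -/
def beta (x y : E) (b : ℕ) : E := x ^ (b % 23) * y ^ (b / 23)

theorem beta_zero (x y : E) : beta x y 0 = 1 := by simp [beta]

theorem beta_one (x y : E) : beta x y 1 = x := by simp [beta]

theorem beta_23 (x y : E) : beta x y 23 = y := by simp [beta]

theorem beta_mul {x y : E} (hx : x ^ 23 = 1) (hy : y ^ 11 = 1) (h : y * x * y⁻¹ = x ^ 2) (a b : ℕ) :
    beta x y (bmul a b) = beta x y a * beta x y b := by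
  have e1 : bmul a b % 23 = (a % 23 + 2 ^ (a / 23) * (b % 23)) % 23 := by
    show ((a % 23 + 2 ^ (a / 23) * (b % 23)) % 23 + 23 * ((a / 23 + b / 23) % 11)) % 23 = _
    omega
  have e2 : bmul a b / 23 = (a / 23 + b / 23) % 11 := by
    show ((a % 23 + 2 ^ (a / 23) * (b % 23)) % 23 + 23 * ((a / 23 + b / 23) % 11)) / 23 = _
    omega
  unfold beta
  rw [e1, e2, ← pow_mod_of_pow_eq_one hx, ← pow_mod_of_pow_eq_one hy, pow_add, pow_add]
  have := conj_pow_pow h (a / 23) (b % 23)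
  calc x ^ (a % 23) * x ^ (2 ^ (a / 23) * (b % 23)) * (y ^ (a / 23) * y ^ (b / 23))
      = x ^ (a % 23) * (x ^ (2 ^ (a / 23) * (b % 23)) * y ^ (a / 23)) * y ^ (b / 23) := by group
    _ = x ^ (a % 23) * (y ^ (a / 23) * x ^ (b % 23)) * y ^ (b / 23) := by rw [this]
    _ = _ := by group

/-- **conjugating an element of odd prime order into a given coset representative** -/
theorem exists_conj_eq (N : Subgroup E) [N.Normal] [Finite N] (h2 : ∀ n ∈ N, n * n = 1)
    {q : ℕ} [hq : Fact q.Prime] (hodd : q ≠ 2) {a c : E} (ha : a ^ q = 1) (hc : c ^ q = 1)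
    (hac : a⁻¹ * c ∈ N) : ∃ n ∈ N, n * c * n⁻¹ = a := by
  classical
  letI : Fintype N := Fintype.ofFinite N
  have hmem : ∀ n : N, a⁻¹ * (n : E) * c ∈ N := by
    intro n
    have h1 : a⁻¹ * (n : E) * c = (a⁻¹ * n * a⁻¹⁻¹) * (a⁻¹ * c) := by group
    rw [h1]
    exact N.mul_mem (Subgroup.Normal.conj_mem inferInstance _ n.2 _) hac
  let f : Function.End N := fun n => ⟨a⁻¹ * (n : E) * c, hmem n⟩
  have hpow : ∀ (k : ℕ) (n : N), (((f ^ k) n : N) : E) = (a ^ k)⁻¹ * (n : E) * c ^ k := by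
    intro k
    induction k with
    | zero =>
      intro n
      rw [pow_zero, pow_zero, pow_zero]
      show ((n : N) : E) = _
      group
    | succ k ih =>
      intro n
      have e : (f ^ (k + 1)) n = f ((f ^ k) n) := by
        rw [pow_succ']; rfl
      rw [e]
      show a⁻¹ * (((f ^ k) n : N) : E) * c = _
      rw [ih n, pow_succ, pow_succ]; group
  have hf : f ^ q ^ 1 = 1 := by
    rw [pow_one]
    funext n
    apply Subtype.ext
    rw [hpow q n, ha, hc]
    show _ = ((n : N) : E)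
    group
  have hcard := Equiv.Perm.card_fixedPoints_modEq (p := q) (n := 1) hf
  have hp2 : IsPGroup 2 N := by
    intro g
    refine ⟨1, ?_⟩
    apply Subtype.ext
    rw [pow_one, pow_two]
    exact h2 g g.2
  obtain ⟨k, hk⟩ := IsPGroup.iff_card.mp hp2
  have hne : Fintype.card (Function.fixedPoints f) ≠ 0 := by
    intro h0
    rw [h0, ← Nat.card_eq_fintype_card, hk] at hcard
    have hdvd : q ∣ 2 ^ k := (Nat.modEq_zero_iff_dvd).mp hcard
    have := (Nat.Prime.dvd_of_dvd_pow hq.out hdvd)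
    exact hodd ((Nat.prime_dvd_prime_iff_eq hq.out Nat.prime_two).mp this)
  obtain ⟨⟨n, hn⟩⟩ := Fintype.card_pos_iff.mp (Nat.pos_of_ne_zero hne)
  refine ⟨n, n.2, ?_⟩
  have : a⁻¹ * (n : E) * c = n := congrArg Subtype.val hn
  calc (n : E) * c * (n : E)⁻¹ = a * (a⁻¹ * n * c) * (n : E)⁻¹ := by group
    _ = a := by rw [this]; group

end

end Cfsg.Agent.Lib.Helper5.M23Coh
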