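import Cfsg.Agent.Lib.Helper5.M23Coh.Base

/-!
# Lifts of the three generators satisfying the relations of `23:11` and of `11:5` exactly
-/

set_option autoImplicit false

namespace Cfsg.Agent.Lib.Helper5.M23Coh

section
variable {E P : Type*} [Group E] [Group P]

theorem pow_even_eq_one {N : Subgroup E} (h2 : ∀ n ∈ N, n * n = 1) {n : E} (hn : n ∈ N) (k : ℕ) :
    n ^ (2 * k) = 1 := by
  rw [pow_mul, pow_two, h2 n hn, one_pow]

/-- **lifts with exact relations** -/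
theorem exists_lifts (N : Subgroup E) [N.Normal] [Finite N] (h2 : ∀ n ∈ N, n * n = 1)
    (π : E →* P) (hker : π.ker = N) {px py ps : P}
    (hx : ∃ e, π e = px) (hy : ∃ e, π e = py) (hs : ∃ e, π e = ps)
    (r1 : px ^ 23 = 1) (r2 : py ^ 11 = 1) (r3 : py * px * py⁻¹ = px ^ 2)
    (r4 : ps ^ 5 = 1) (r5 : ps * py * ps⁻¹ = py ^ 3) :
    ∃ x y s : E, π x = px ∧ π y = py ∧ π s = ps ∧ x ^ 23 = 1 ∧ y ^ 11 = 1 ∧
      y * x * y⁻¹ = x ^ 2 ∧ s ^ 5 = 1 ∧ s * y * s⁻¹ = y ^ 3 := by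
  have memN : ∀ e : E, π e = 1 → e ∈ N := by
    intro e he
    rw [← hker]; exact (MonoidHom.mem_ker).mpr he
  have kerN : ∀ e ∈ N, π e = 1 := by
    intro e he
    rw [← hker] at he; exact (MonoidHom.mem_ker).mp he
  obtain ⟨x₀, hx₀⟩ := hx
  obtain ⟨y₀, hy₀⟩ := hy
  obtain ⟨s₀, hs₀⟩ := hs
  -- the element of order 23
  have hx0N : x₀ ^ 23 ∈ N := memN _ (by rw [map_pow, hx₀, r1])
  set x := x₀ ^ 24 with hxdef
  have πx : π x = px := by
    rw [hxdef, map_pow, hx₀, show (24 : ℕ) = 23 + 1 from rfl, pow_add, r1, one_mul, pow_one]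
  have x23 : x ^ 23 = 1 := by
    rw [hxdef, ← pow_mul, show 24 * 23 = 23 * (2 * 12) from rfl, pow_mul]
    exact pow_even_eq_one h2 hx0N 12
  -- the element of order 11 normalizing it
  haveI : Fact (Nat.Prime 23) := ⟨by norm_num⟩
  haveI : Fact (Nat.Prime 11) := ⟨by norm_num⟩
  obtain ⟨n, hn, hnc⟩ := exists_conj_eq N h2 (q := 23) (by norm_num) (a := x ^ 2) (c := y₀ * x * y₀⁻¹)
    (by rw [← pow_mul, mul_comm, pow_mul, x23, one_pow])
    (by rw [conj_pow, x23]; group)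
    (memN _ (by
      rw [map_mul, map_inv, map_pow, map_mul, map_mul, map_inv, πx, hy₀, r3]; group))
  set y₁ := n * y₀ with hy1def
  have πy1 : π y₁ = py := by rw [hy1def, map_mul, kerN n hn, one_mul, hy₀]
  have cy1 : y₁ * x * y₁⁻¹ = x ^ 2 := by
    rw [← hnc, hy1def]; group
  have hy1N : y₁ ^ 11 ∈ N := memN _ (by rw [map_pow, πy1, r2])
  set y := y₁ ^ 12 with hydef
  have πy : π y = py := by
    rw [hydef, map_pow, πy1, show (12 : ℕ) = 11 + 1 from rfl, pow_add, r2, one_mul, pow_one]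
  have y11 : y ^ 11 = 1 := by
    rw [hydef, ← pow_mul, show 12 * 11 = 11 * (2 * 6) from rfl, pow_mul]
    exact pow_even_eq_one h2 hy1N 6
  have cy : y * x * y⁻¹ = x ^ 2 := by
    rw [hydef, conj_pow_eq cy1 12, pow_mod_of_pow_eq_one x23]
    norm_num
  -- the element of order 5 normalizing the latter
  obtain ⟨m, hm, hmc⟩ := exists_conj_eq N h2 (q := 11) (by norm_num) (a := y ^ 3) (c := s₀ * y * s₀⁻¹)
    (by rw [← pow_mul, mul_comm, pow_mul, y11, one_pow])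
    (by rw [conj_pow, y11]; group)
    (memN _ (by
      rw [map_mul, map_inv, map_pow, map_mul, map_mul, map_inv, πy, hs₀, r5]; group))
  set s₁ := m * s₀ with hs1def
  have πs1 : π s₁ = ps := by rw [hs1def, map_mul, kerN m hm, one_mul, hs₀]
  have cs1 : s₁ * y * s₁⁻¹ = y ^ 3 := by
    rw [← hmc, hs1def]; group
  have hs1N : s₁ ^ 5 ∈ N := memN _ (by rw [map_pow, πs1, r4])
  set s := s₁ ^ 16 with hsdef
  have πs : π s = ps := by
    rw [hsdef, map_pow, πs1, show (16 : ℕ) = 5 * 3 + 1 from rfl, pow_add, pow_mul, r4, one_pow, one_mul,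
      pow_one]
  have s5 : s ^ 5 = 1 := by
    rw [hsdef, ← pow_mul, show 16 * 5 = 5 * (2 * 8) from rfl, pow_mul]
    exact pow_even_eq_one h2 hs1N 8
  have cs : s * y * s⁻¹ = y ^ 3 := by
    rw [hsdef, conj_pow_eq cs1 16, pow_mod_of_pow_eq_one y11]
    norm_num
  exact ⟨x, y, s, πx, πy, πs, x23, y11, cy, s5, cs⟩

end

end Cfsg.Agent.Lib.Helper5.M23Coh
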