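import Mathlib

/-!
# Labels: 23 blocks of 115 bits, packed in one number

A block is a linear form in `5 × 23` unknown bits; a label gives one block for each of the 23 points.
-/

set_option autoImplicit false

namespace Cfsg.Agent.Lib.Helper5.M23Coh

/-- `2 ^ 115` -/
def P115 : ℕ := 41538374868278621028243970633760768

theorem P115_eq : P115 = 2 ^ 115 := by norm_num [P115]

theorem P115_pos : 0 < P115 := by norm_num [P115]

/-- the block number `p` of a label -/
def blk (L p : ℕ) : ℕ := Nat.land (Nat.shiftRight L (Nat.mul 115 p)) (Nat.sub P115 1)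

theorem blk_eq (L p : ℕ) : blk L p = L / P115 ^ p % P115 := by
  show (L >>> (115 * p)) &&& (P115 - 1) = _
  rw [P115_eq, Nat.and_two_pow_sub_one_eq_mod, Nat.shiftRight_eq_div_pow, ← pow_mul]

theorem blk_lt (L p : ℕ) : blk L p < P115 := by
  rw [blk_eq]; exact Nat.mod_lt _ P115_pos

theorem blk_zero (p : ℕ) : blk 0 p = 0 := by
  rw [blk_eq]; simp

theorem blk_xor (L M p : ℕ) : blk (L ^^^ M) p = blk L p ^^^ blk M p := by
  show ((L ^^^ M) >>> (115 * p)) &&& (P115 - 1) = ((L >>> (115 * p)) &&& (P115 - 1)) ^^^ ((M >>> (115 * p)) &&& (P115 - 1))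
  rw [Nat.shiftRight_xor_distrib, Nat.and_xor_distrib_right]

/-- the label with the blocks `g p`, …, `g (p + k - 1)` -/
def hor (g : ℕ → ℕ) : ℕ → ℕ → ℕ
  | _, 0 => 0
  | p, k + 1 => Nat.add (g p) (Nat.mul P115 (hor g (p + 1) k))

theorem blk_hor {g : ℕ → ℕ} (hg : ∀ q, g q < P115) : ∀ (k p q : ℕ), q < k → blk (hor g p k) q = g (p + q)
  | 0, _, _, h => absurd h (Nat.not_lt_zero _)
  | k + 1, p, 0, _ => by
    rw [blk_eq, hor]
    show (g p + P115 * hor g (p + 1) k) / P115 ^ 0 % P115 = g (p + 0)
    rw [pow_zero, Nat.div_one, Nat.add_mul_mod_self_left, Nat.mod_eq_of_lt (hg p), Nat.add_zero]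
  | k + 1, p, q + 1, h => by
    have ih := blk_hor hg k (p + 1) q (by omega)
    rw [blk_eq] at ih ⊢
    rw [hor]
    show (g p + P115 * hor g (p + 1) k) / P115 ^ (q + 1) % P115 = g (p + (q + 1))
    rw [pow_succ', ← Nat.div_div_eq_div_mul, Nat.add_mul_div_left _ _ P115_pos, Nat.div_eq_of_lt (hg p),
      Nat.zero_add, ih]
    congr 1; omega

/-- the digit number `i` of a code of a permutation of the 24 points -/
def dig (c i : ℕ) : ℕ := Nat.land (Nat.shiftRight c (Nat.mul 5 i)) 31

/-- a label moved by the permutation with code `c` -/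
def twc (c L : ℕ) : ℕ := hor (fun p => blk L (dig c p)) 0 23

theorem blk_twc (c L : ℕ) {p : ℕ} (hp : p < 23) : blk (twc c L) p = blk L (dig c p) := by
  unfold twc
  rw [blk_hor (fun q => blk_lt _ _) 23 0 p hp, Nat.zero_add]

/-- the image of the point `p` under the element with code `b` of the group `23:11` -/
def bpt (b p : ℕ) : ℕ := Nat.mod (Nat.add (Nat.mul (Nat.pow 2 (Nat.div b 23)) p) (Nat.mod b 23)) 23

/-- a label moved by the element with code `b` of the group `23:11` -/
def twb (b L : ℕ) : ℕ := hor (fun p => blk L (bpt b p)) 0 23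

theorem blk_twb (b L : ℕ) {p : ℕ} (hp : p < 23) : blk (twb b L) p = blk L (bpt b p) := by
  unfold twb
  rw [blk_hor (fun q => blk_lt _ _) 23 0 p hp, Nat.zero_add]

/-- the label of the relator number `r` carried by the permutation with digits `f` -/
def unitL (r : ℕ) (f : ℕ → ℕ) : ℕ :=
  hor (fun p => Nat.pow 2 (Nat.add (Nat.mul 23 r) (Nat.mod (f p) 23))) 0 23

theorem blk_unitL {r : ℕ} (f : ℕ → ℕ) (hr : r < 5) {p : ℕ} (hp : p < 23) :
    blk (unitL r f) p = 2 ^ (23 * r + f p % 23) := by
  unfold unitL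
  rw [blk_hor _ 23 0 p hp, Nat.zero_add]
  · rfl
  · intro q
    show 2 ^ (23 * r + f q % 23) < P115
    rw [P115_eq]
    apply Nat.pow_lt_pow_right (by norm_num)
    have := Nat.mod_lt (f q) (show 0 < 23 by norm_num)
    omega

/-- parity of the number of ones among the first 23 bits -/
def par23 (x : ℕ) : Bool := (List.range 23).foldr (fun q acc => xor (Nat.testBit x q) acc) false

theorem foldr_xor_aux (x y : ℕ) : ∀ l : List ℕ,
    l.foldr (fun q acc => xor (Nat.testBit (x ^^^ y) q) acc) false =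
      xor (l.foldr (fun q acc => xor (Nat.testBit x q) acc) false)
        (l.foldr (fun q acc => xor (Nat.testBit y q) acc) false)
  | [] => rfl
  | q :: l => by
    have ih := foldr_xor_aux x y l
    simp only [List.foldr_cons]
    rw [ih, Nat.testBit_xor]
    generalize (l.foldr (fun q acc => xor (Nat.testBit x q) acc) false) = A
    generalize (l.foldr (fun q acc => xor (Nat.testBit y q) acc) false) = B
    cases Nat.testBit x q <;> cases Nat.testBit y q <;> cases A <;> cases B <;> rfl

theorem par23_xor (x y : ℕ) : par23 (x ^^^ y) = xor (par23 x) (par23 y) :=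
  foldr_xor_aux x y _

theorem par23_zero : par23 0 = false := by decide

/-- the part number `r` (23 bits) of a block -/
def sub23 (r X : ℕ) : ℕ := Nat.land (Nat.shiftRight X (Nat.mul 23 r)) 8388607

theorem sub23_xor (r X Y : ℕ) : sub23 r (X ^^^ Y) = sub23 r X ^^^ sub23 r Y := by
  show ((X ^^^ Y) >>> (23 * r)) &&& 8388607 = ((X >>> (23 * r)) &&& 8388607) ^^^ ((Y >>> (23 * r)) &&& 8388607)
  rw [Nat.shiftRight_xor_distrib, Nat.and_xor_distrib_right]

/-- the value of a block (a linear form) at the five unknown words `a 0`, …, `a 4` -/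
def dotE (a : ℕ → ℕ) (X : ℕ) : Bool :=
  xor (par23 (Nat.land (sub23 0 X) (a 0))) (xor (par23 (Nat.land (sub23 1 X) (a 1)))
    (xor (par23 (Nat.land (sub23 2 X) (a 2))) (xor (par23 (Nat.land (sub23 3 X) (a 3)))
      (par23 (Nat.land (sub23 4 X) (a 4))))))

theorem dotE_xor (a : ℕ → ℕ) (X Y : ℕ) : dotE a (X ^^^ Y) = xor (dotE a X) (dotE a Y) := by
  unfold dotE
  have h : ∀ r, par23 (Nat.land (sub23 r (X ^^^ Y)) (a r)) =
      xor (par23 (Nat.land (sub23 r X) (a r))) (par23 (Nat.land (sub23 r Y) (a r))) := by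
    intro r
    rw [sub23_xor]
    show par23 ((sub23 r X ^^^ sub23 r Y) &&& a r) = _
    rw [Nat.and_xor_distrib_right, par23_xor]
    rfl
  rw [h 0, h 1, h 2, h 3, h 4]
  cases par23 (Nat.land (sub23 0 X) (a 0)) <;> cases par23 (Nat.land (sub23 0 Y) (a 0)) <;>
  cases par23 (Nat.land (sub23 1 X) (a 1)) <;> cases par23 (Nat.land (sub23 1 Y) (a 1)) <;>
  cases par23 (Nat.land (sub23 2 X) (a 2)) <;> cases par23 (Nat.land (sub23 2 Y) (a 2)) <;>
  cases par23 (Nat.land (sub23 3 X) (a 3)) <;> cases par23 (Nat.land (sub23 3 Y) (a 3)) <;>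
  cases par23 (Nat.land (sub23 4 X) (a 4)) <;> cases par23 (Nat.land (sub23 4 Y) (a 4)) <;> rfl

theorem dotE_zero (a : ℕ → ℕ) : dotE a 0 = false := by
  unfold dotE sub23
  simp [par23_zero]

theorem sub23_unit_aux : ∀ i < 115, ∀ r < 5, sub23 r (2 ^ i) = if i / 23 = r then 2 ^ (i % 23) else 0 := by
  decide +kernel

theorem par23_pow_aux : ∀ q < 23, par23 (2 ^ q) = true := by decide

theorem par23_and_pow (x : ℕ) {q : ℕ} (hq : q < 23) : par23 (2 ^ q &&& x) = Nat.testBit x q := by
  rw [Nat.two_pow_and]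
  by_cases h : Nat.testBit x q = true
  · rw [h]
    simp only [Bool.toNat_true, mul_one]
    exact par23_pow_aux q hq
  · rw [Bool.not_eq_true] at h
    rw [h]; simp [par23_zero]

theorem dotE_unit (a : ℕ → ℕ) {r q : ℕ} (hr : r < 5) (hq : q < 23) :
    dotE a (2 ^ (23 * r + q)) = Nat.testBit (a r) q := by
  have hi : 23 * r + q < 115 := by omega
  have h1 : (23 * r + q) / 23 = r := by omega
  have h2 : (23 * r + q) % 23 = q := by omega
  unfold dotE
  rw [sub23_unit_aux _ hi 0 (by norm_num), sub23_unit_aux _ hi 1 (by norm_num),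
    sub23_unit_aux _ hi 2 (by norm_num), sub23_unit_aux _ hi 3 (by norm_num),
    sub23_unit_aux _ hi 4 (by norm_num), h1, h2]
  have z : ∀ y, par23 (Nat.land 0 y) = false := by
    intro y
    show par23 (0 &&& y) = false
    rw [Nat.zero_and]; exact par23_zero
  have u : ∀ y, par23 (Nat.land (2 ^ q) y) = Nat.testBit y q := fun y => par23_and_pow y hq
  interval_cases r
  · rw [if_pos rfl, if_neg (by norm_num), if_neg (by norm_num), if_neg (by norm_num), if_neg (by norm_num),
      z, z, z, z, u]; simp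
  · rw [if_neg (by norm_num), if_pos rfl, if_neg (by norm_num), if_neg (by norm_num), if_neg (by norm_num),
      z, z, z, z, u]; simp
  · rw [if_neg (by norm_num), if_neg (by norm_num), if_pos rfl, if_neg (by norm_num), if_neg (by norm_num),
      z, z, z, z, u]; simp
  · rw [if_neg (by norm_num), if_neg (by norm_num), if_neg (by norm_num), if_pos rfl, if_neg (by norm_num),
      z, z, z, z, u]; simp
  · rw [if_neg (by norm_num), if_neg (by norm_num), if_neg (by norm_num), if_neg (by norm_num), if_pos rfl,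
      z, z, z, z, u]; simp

end Cfsg.Agent.Lib.Helper5.M23Coh
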