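import Cfsg.Agent.Lib.Helper5.M23Coh.GL
import Cfsg.Agent.Lib.Helper5.M23Coh.Lab
import Cfsg.Agent.Lib.Helper5.M23Coh.DLabs

/-!
# The coset complex of `M23` over `23:11` with labels: the first 1043 deduced edges
-/

set_option autoImplicit false

namespace Cfsg.Agent.Lib.Helper5.M23Coh

open Cfsg.Agent.H9.NatPerm

/-- the labels number `261 k`, …, `261 k + 260` -/
def labC (k : ℕ) : ℕ :=
  match k with
  | 0 => labsD0
  | 1 => labsD1
  | 2 => labsD2
  | 3 => labsD3
  | _ => 0

/-- `2 ^ 2645 - 1` -/
def M2645 : ℕ := Nat.sub (Nat.pow 2 2645) 1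

/-- the label of the edge number `i` -/
def labA (i : ℕ) : ℕ :=
  force M2645 fun m => Nat.land (Nat.shiftRight (labC (Nat.div i 261)) (Nat.mul 2645 (Nat.mod i 261))) m

/-- the code of the permutation of the tree element of a vertex (with fuel) -/
def gwf : ℕ → ℕ → ℕ
  | 0, _ => idc
  | f + 1, ω => if Nat.beq ω 0 then idc else pmul (gcode (plT ω)) (gwf f (parT ω))

/-- the vertex is joined to the base vertex by at most `f` tree edges -/
def reach : ℕ → ℕ → Bool
  | 0, ω => Nat.beq ω 0
  | f + 1, ω => Nat.beq ω 0 || (Nat.blt (parT ω) ω && Nat.blt (plT ω) 6 && reach f (parT ω))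

/-- the label of a relator instance moved to a vertex -/
def ilA (ω i : ℕ) : ℕ :=
  if Nat.blt (Nat.div i 128) 6 then 0
  else force (pmul (wcode ((sgnW (Nat.div i 64)).take (Nat.mod i 64))) (gwf 12 ω)) fun c =>
    unitL (Nat.sub (Nat.div i 128) 6) (fun p => aget c p)

/-- the relator instance may be used at the vertex -/
def iokA (ω i : ℕ) : Bool := reach 12 ω && Nat.blt i 1408

/-- the complex with labels -/
def certA : Cert ℕ where
  nV := 40320
  nF := 1043
  nx := nxT
  bb := bbT
  rk := rkT
  par := parT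
  pl := plT
  fbase := fbaseT
  finst := finstT
  ftgt := ftgtT
  iw := iwT
  zero := 0
  add := Nat.xor
  tw := twb
  lab := labA
  il := ilA
  iok := iokA
  beq := Nat.beq

end Cfsg.Agent.Lib.Helper5.M23Coh
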