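import Cfsg.Agent.Lib.Helper5.M23Coh.ChkA

/-! # The words of the code of length 24 are orthogonal to each other (a check) -/

set_option autoImplicit false
set_option maxRecDepth 1000000

namespace Cfsg.Agent.Lib.Helper5.M23Coh

open Cfsg.Agent.Lib.Helper6.Golay

theorem chkA_code : allB (fun m => Nat.testBit (combo m) 23 ||
    allB (fun j => !(par23 (Nat.land (hsV.getD j 0) (combo m)))) 12) 4096 = true := by
  decide +kernel

end Cfsg.Agent.Lib.Helper5.M23Coh
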