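import Cfsg.Agent.Lib.Helper5.M23Coh.Tabs

/-! # The coset complex of `M23` over `23:11`: the deductions number 50401 to 60480 (generated) -/

set_option autoImplicit false
set_option maxRecDepth 1000000

namespace Cfsg.Agent.Lib.Helper5.M23Coh

theorem chkD_face5 : allR (fun i => faceOK certD i) 50401 10080 = true := by
  decide +kernel

end Cfsg.Agent.Lib.Helper5.M23Coh
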