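import Cfsg.Agent.Lib.Helper5.M23Coh.Tabs

/-! # The coset complex of `M23` over `23:11`: checks of the tree, of the numbering of the edges and of the vertices 5040 to 10079 (generated) -/

set_option autoImplicit false
set_option maxRecDepth 1000000

namespace Cfsg.Agent.Lib.Helper5.M23Coh

theorem chkD_init1 : allR (fun ω => initOK certD ω 0 && initOK certD ω 1 && initOK certD ω 2) 5040 5040 = true := by
  decide +kernel

theorem chkD_edge1 : allR (fun ω => edgeOK certD ω 0 && edgeOK certD ω 1 && edgeOK certD ω 2) 5040 5040 = true := by
  decide +kernel

theorem chkD_vert1 : allR (fun ω => vertOK certD ω) 5040 5040 = true := by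
  decide +kernel

end Cfsg.Agent.Lib.Helper5.M23Coh
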