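import Cfsg.Agent.Lib.Helper5.M23Coh.ChkA

/-! # The coset complex of `M23` over `23:11` with labels: the checks for the cocode module (generated) -/

set_option autoImplicit false
set_option maxRecDepth 1000000

namespace Cfsg.Agent.Lib.Helper5.M23Coh

open Cfsg.Agent.Lib.Helper6.Golay

/-- a basis of the words of the code of length 24 which vanish at the extra point -/
def hW : List ℕ := [4845570, 7221256, 2019456, 4038912, 8077824, 1302533, 6053905, 7417889, 2854977, 7767041, 2422785]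

/-- the sum of the blocks of a label at the points of a word -/
def kw (h L : ℕ) : ℕ :=
  (List.range 23).foldr (fun p acc => if Nat.testBit h p then Nat.xor (blk L p) acc else acc) 0

/-- the linear forms known to vanish: the parity checks of the labels of the closed relator instances -/
def kmasksW : List ℕ := consLs.flatMap (fun L => hW.map (fun h => kw h L))

/-- the linear form which does not follow from the known ones -/
def emaskW : ℕ := Nat.shiftLeft (hW.getD 0 0) 23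

/-- the parity checks of the five unknown words: multiples of the free form -/
def cbitsW : List Bool := [false, false, false, false, false, false, false, false, false, false, false, true, true, false, false, true, true, false, true, true, false, true, false, false, false, false, false, false, false, false, false, false, false, false, false, false, false, false, false, false, true, true, true, true, true, true, false, false, false, true, true, true, false, false, false]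

/-- the parity checks of the five unknown words as sums of known forms -/
def selW : List (List ℕ) := [[0], [1], [2], [3], [4], [5], [6], [7], [8], [9], [10], [], [0, 1, 3, 4, 7, 9, 12, 13, 17, 18, 20, 21, 22, 23, 24, 27, 28, 29, 35, 36, 41, 46, 47], [0, 1, 2, 10, 12, 16, 17, 18, 19, 22, 26, 28, 29, 34, 35, 39, 41, 42, 43, 46, 47], [0, 1, 6, 8, 10, 12, 13, 15, 16, 17, 18, 19, 20, 21, 23, 25, 26, 34, 35, 39, 40, 42, 46], [3, 4, 8, 9, 13, 14, 16, 17, 20, 21, 22, 23, 24, 27, 34, 36, 37, 39, 40, 41, 42, 47], [1, 2, 3, 4, 8, 9, 11, 13, 14, 15, 16, 17, 19, 20, 26, 27, 34, 36, 46, 47], [2, 6, 7, 9, 12, 13, 15, 19, 20, 21, 23, 26, 29, 35, 39, 40, 41, 42, 43, 46], [0, 1, 2, 4, 5, 6, 7, 13, 15, 16, 17, 19, 20, 21, 22, 24, 27, 28, 35, 37, 39, 40, 41, 42, 47], [0, 1, 3, 6, 7, 8, 9, 11, 13, 14, 15, 18, 19, 20, 25, 26, 27, 29, 34, 37, 43, 46], [0, 1, 3, 4, 8, 9, 10, 12, 13, 16, 18, 21, 23, 33, 34, 35, 36, 39, 40, 41, 42,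 43, 47], [0, 4, 6, 7, 8, 9, 11, 12, 14, 16, 19, 22, 25, 28, 29, 33, 35, 36, 39, 40, 41, 42, 43, 46], [1, 5, 8, 23, 26, 28], [1, 2, 4, 6, 8, 11, 14, 18, 20, 21, 22, 23, 25, 26, 27, 28, 29, 38, 40, 41, 42, 46, 47], [0, 2, 3, 4, 10, 12, 13, 15, 16, 18, 21, 22, 24, 26, 27, 28, 37, 39, 41, 42, 43, 46], [0, 3, 6, 8, 9, 10, 11, 13, 14, 28, 33, 36, 37, 38, 39, 41, 42, 43, 46], [0, 1, 9, 11, 13, 14, 23, 25, 26, 29, 33, 36, 37, 38, 39, 41, 42, 43, 46], [0, 1, 3, 7, 8, 10, 12, 13, 15, 16, 18, 21, 24, 28, 37, 39, 41, 42, 43, 46], [3, 4, 6, 7, 10, 13, 18, 20, 21, 22, 27, 29, 33, 36, 37, 39, 40, 43, 47], [0, 3, 4, 8, 9, 10, 11, 13, 14, 22, 23, 25, 33, 36, 37, 38, 39, 41, 42, 43, 46], [0, 1, 4, 6, 7, 9, 11, 12, 14, 15, 16, 18, 21, 23, 25, 27, 28, 33, 36, 38], [0, 2, 3, 4, 7, 11, 13, 14, 22, 25, 28, 29, 33, 36, 37, 38, 39, 41, 42, 43, 46], [0, 2, 4, 5, 7, 8, 10, 11, 13, 14, 23, 25, 29, 33, 36, 37, 38, 39, 41, 42, 43, 46],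 [0, 2, 6, 7, 9, 10, 11, 13, 15, 17, 18, 21, 24, 26, 28, 34, 37, 39, 41, 42, 46, 47], [1, 2, 4, 7, 9, 10, 13, 15, 19, 20, 21, 22, 23, 24, 27, 36, 37, 39, 42, 43, 46, 47], [0, 1, 2, 3, 4, 6, 7, 8, 10, 11, 15, 16, 18, 19, 21, 26, 29, 33, 34, 36, 46, 47], [6, 7, 10, 11, 12, 13, 14, 15, 16, 17, 18, 21, 23, 25, 26, 28, 29, 37], [0, 1, 3, 4, 7, 10, 13, 16, 20, 22, 23, 25, 26, 28, 33, 34, 36, 40, 41, 43, 46], [4, 5, 9, 10, 14, 18, 19, 20, 21, 23, 26, 28, 29, 33, 35, 46, 47], [2, 3, 5, 8, 10, 11, 13, 14, 17, 18, 19, 22, 35, 36, 40, 47], [5, 6, 8, 11, 15, 16, 19, 21, 22, 26, 27, 35, 36, 37, 40, 41, 46, 47], [0, 1, 2, 3, 5, 7, 9, 13, 14, 16, 18, 19, 20, 21, 22, 24, 25, 26, 27, 28, 33, 35, 36, 37, 39, 40, 42, 43, 46], [3, 5, 7, 9, 10, 11, 12, 13, 17, 19, 21, 24, 25, 27, 29, 33, 34, 36, 37, 40, 41, 47], [3, 5, 6, 10, 11, 13, 14, 15, 17, 19, 21, 23, 25, 28, 29, 35, 36, 41, 43], [5, 12, 17, 20, 21, 22, 23, 26, 27, 29, 33,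 35, 36, 37, 40, 46, 55, 56, 57, 59, 60, 62, 63, 66], [1, 2, 3, 4, 5, 6, 8, 9, 10, 12, 14, 15, 18, 20, 21, 25, 27, 28, 33, 35, 36, 39, 40, 41, 43, 46, 55, 56, 59, 63, 64, 66], [0, 1, 3, 5, 7, 11, 12, 15, 16, 19, 22, 23, 29, 40, 42, 46, 47, 56, 58, 61, 62, 64], [4, 5, 6, 7, 8, 9, 11, 15, 16, 19, 21, 23, 29, 34, 35, 36, 38, 39, 40, 41, 42, 43, 46, 55, 57, 59, 60, 62], [1, 3, 4, 6, 7, 11, 12, 15, 16, 17, 18, 19, 20, 21, 25, 26, 34, 36, 37, 39, 41, 42, 46, 55, 57, 60, 62, 63, 66], [0, 2, 4, 5, 9, 11, 12, 14, 18, 20, 21, 22, 23, 25, 27, 29, 34, 35, 37, 40, 42, 46, 47, 55, 56, 58, 60, 61, 64], [0, 2, 5, 9, 11, 15, 20, 22, 26, 27, 28, 34, 43, 55, 56, 59, 60, 63, 64, 66], [1, 3, 4, 6, 7, 9, 11, 13, 14, 15, 16, 18, 20, 22, 26, 27, 34, 39, 40, 42, 43, 46, 47, 55, 57, 58, 61, 66], [0, 2, 3, 4, 6, 7, 9, 11, 13, 14, 17, 18, 19, 20, 21, 22, 25, 27, 28, 37, 39, 42, 59, 60, 62], [1, 4, 8, 11, 13, 15, 16, 17, 19, 22, 23, 24,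 28, 36, 37, 40, 42, 43, 47, 58, 60, 63, 66], [11, 12, 14, 17, 21, 24, 27, 29, 33, 34, 35, 37, 39, 41, 46, 60, 61, 64]]

/-- the values of the five relators in the extension which does not split -/
def usW : List ℕ := [0, 3223552, 0, 577536, 6168576]

theorem chkW_lin : allB (fun i => Nat.beq (xorIdx kmasksW (selW.getD i []))
    (Nat.xor (Nat.shiftLeft (hW.getD (Nat.mod i 11) 0) (Nat.mul 23 (Nat.div i 11)))
      (if cbitsW.getD i false then emaskW else 0))) 55 = true := by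
  decide +kernel

theorem chkW_sub : allB (fun r => allB (fun j => allB (fun r' =>
    Nat.beq (sub23 r' (Nat.shiftLeft (hW.getD j 0) (Nat.mul 23 r))) (if Nat.beq r' r then hW.getD j 0 else 0)) 5) 11) 5 = true := by
  decide +kernel

theorem chkW_inf : allB (fun j => Nat.beq (Nat.land (hW.getD j 0) 8388608) 0) 11 = true := by
  decide +kernel

theorem chkW_u : allB (fun r => allB (fun j =>
    !(xor (par23 (Nat.land (hW.getD j 0) (usW.getD r 0))) (cbitsW.getD (Nat.add (Nat.mul 11 r) j) false))) 11) 5 = true := by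
  decide +kernel

end Cfsg.Agent.Lib.Helper5.M23Coh
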