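import Cfsg.Agent.Lib.Helper5.M23Coh.ChkW

/-! # The words of the code of length 24 are orthogonal to the chosen basis (a check) (generated) -/

set_option autoImplicit false
set_option maxRecDepth 1000000

namespace Cfsg.Agent.Lib.Helper5.M23Coh

open Cfsg.Agent.Lib.Helper6.Golay

theorem chkW_code0 : allR (fun m => allB (fun j => !(par23 (Nat.land (hW.getD j 0) (combo m)))) 11) 0 1024 = true := by
  decide +kernel

theorem chkW_code1 : allR (fun m => allB (fun j => !(par23 (Nat.land (hW.getD j 0) (combo m)))) 11) 1024 1024 = true := by
  decide +kernel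

theorem chkW_code2 : allR (fun m => allB (fun j => !(par23 (Nat.land (hW.getD j 0) (combo m)))) 11) 2048 1024 = true := by
  decide +kernel

theorem chkW_code3 : allR (fun m => allB (fun j => !(par23 (Nat.land (hW.getD j 0) (combo m)))) 11) 3072 1024 = true := by
  decide +kernel

end Cfsg.Agent.Lib.Helper5.M23Coh
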