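import Cfsg.Agent.Lib.Helper5.M23Coh.ChkW

/-! # Words orthogonal to the chosen basis and supported on the last twelve points (a check) (generated) -/

set_option autoImplicit false
set_option maxRecDepth 1000000

namespace Cfsg.Agent.Lib.Helper5.M23Coh

open Cfsg.Agent.Lib.Helper6.Golay

theorem chkW_dec0 : allR (fun t => Nat.beq t 0 || Nat.beq t 2048 ||
    !(allB (fun j => !(par23 (Nat.land (hW.getD j 0) (Nat.mul 4096 t)))) 11)) 0 1024 = true := by
  decide +kernel

theorem chkW_dec1 : allR (fun t => Nat.beq t 0 || Nat.beq t 2048 ||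
    !(allB (fun j => !(par23 (Nat.land (hW.getD j 0) (Nat.mul 4096 t)))) 11)) 1024 1024 = true := by
  decide +kernel

theorem chkW_dec2 : allR (fun t => Nat.beq t 0 || Nat.beq t 2048 ||
    !(allB (fun j => !(par23 (Nat.land (hW.getD j 0) (Nat.mul 4096 t)))) 11)) 2048 1024 = true := by
  decide +kernel

theorem chkW_dec3 : allR (fun t => Nat.beq t 0 || Nat.beq t 2048 ||
    !(allB (fun j => !(par23 (Nat.land (hW.getD j 0) (Nat.mul 4096 t)))) 11)) 3072 1024 = true := by
  decide +kernel

end Cfsg.Agent.Lib.Helper5.M23Coh
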