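import Cfsg.Agent.Lib.Helper5.M23Coh.Machine

/-!
# Labelled coset complexes: closed relator instances and the enumeration of the generated group
-/

set_option autoImplicit false

namespace Cfsg.Agent.Lib.Helper5.M23Coh

section
variable {Λ : Type} (C : Cert Λ)

/-- the label of a relator instance all of whose edges are known -/
def consL (ω i : ℕ) : Option Λ :=
  match walk C (C.nF + 1) (C.iw i) ω with
  | none => none
  | some (ω₁, b, L) =>
    if Nat.beq ω₁ ω && Nat.beq b 0 && C.iok ω i then some (C.add L (C.il ω i)) else none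

/-- all letters may be read at the vertex -/
def vertOK (ω : ℕ) : Bool :=
  allB (fun l => stepOK C (C.nF + 1) ω l && Nat.blt (C.nx ω l) C.nV) 6

end

section
variable {Λ : Type} {C : Cert Λ} {E : Type*} [Group E] {gen : ℕ → E} (M : Model C gen)

theorem Model.cons_sound (hK : M.Known (C.nF + 1)) {ω i : ℕ} {L : Λ} (h : consL C ω i = some L) :
    M.Rep 1 L := by
  unfold consL at h
  rcases hw : walk C (C.nF + 1) (C.iw i) ω with _ | ⟨ω₁, b, L₁⟩
  · rw [hw] at h; exact absurd h (by simp)
  · rw [hw] at h
    simp only at h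
    by_cases hc : (Nat.beq ω₁ ω && Nat.beq b 0 && C.iok ω i) = true
    · rw [if_pos hc] at h
      simp only [Option.some.injEq] at h
      subst h
      simp only [Bool.and_eq_true] at hc
      obtain ⟨⟨c1, c2⟩, c3⟩ := hc
      have e1 : ω₁ = ω := Nat.eq_of_beq_eq_true c1
      have e2 : b = 0 := Nat.eq_of_beq_eq_true c2
      subst e1 e2
      obtain ⟨-, n, hn, hR⟩ := M.walk_sound hK _ _ _ _ _ hw
      have hI := M.rep_inst _ _ c3
      have : (tau C gen ω₁)⁻¹ * ev gen (C.iw i) * tau C gen ω₁ = n := by
        rw [mul_assoc, hn, M.β_zero]; group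
      rw [this] at hI
      have := M.rep_mul hR (M.rep_inv hI)
      rwa [mul_inv_cancel] at this
    · rw [if_neg hc] at h; exact absurd h (by simp)

/-- every word in the six letters is a tree element times a base element times a labelled element -/
theorem Model.word_form (hK : M.Known (C.nF + 1)) (h0 : 0 < C.nV)
    (h4 : ∀ ω < C.nV, vertOK C ω = true) :
    ∀ w : List ℕ, (∀ l ∈ w, l < 6) → ∃ ω < C.nV, ∃ b < 253, ∃ (m : E) (L : Λ), M.Rep m L ∧
      ev gen w = tau C gen ω * M.β b * m := by
  intro w
  induction w with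
  | nil =>
    intro _
    refine ⟨0, h0, 0, by norm_num, 1, C.zero, M.rep_one, ?_⟩
    rw [ev_nil, tau_zero, M.β_zero]; group
  | cons l w ih =>
    intro hl
    obtain ⟨ω, hω, b, hb, m, L, hR, hw⟩ := ih (fun x hx => hl x (List.mem_cons_of_mem _ hx))
    have hl6 : l < 6 := hl l List.mem_cons_self
    have hv := allB_spec (h4 ω hω) l hl6
    rw [Bool.and_eq_true] at hv
    obtain ⟨hb2, n, hn, hR2⟩ := M.look_sound hK hv.1
    have hnx : (look C ω l).1 = C.nx ω l := by
      unfold look; split <;> rfl
    refine ⟨(look C ω l).1, ?_, bmul (look C ω l).2.1 b, bmul_lt _ _,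
      (M.β b)⁻¹ * n * M.β b * m, _, M.rep_mul (M.rep_tw b hb hR2) hR, ?_⟩
    · rw [hnx]; simpa using hv.2
    · rw [ev_cons, hw, M.β_mul _ _ hb2 hb, ← mul_assoc, ← mul_assoc, hn]
      group

/-- the inverse letter -/
def invl (l : ℕ) : ℕ := if l < 3 then l + 3 else l - 3

theorem invl_lt {l : ℕ} (h : l < 6) : invl l < 6 := by
  unfold invl; split <;> omega

include M in
theorem Model.gen_invl {l : ℕ} (h : l < 6) : gen (invl l) = (gen l)⁻¹ := by
  unfold invl
  split
  · exact M.gen_inv l ‹_›
  · have := M.gen_inv (l - 3) (by omega)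
    rw [Nat.sub_add_cancel (by omega)] at this
    rw [this, inv_inv]

include M in
theorem Model.ev_inv (w : List ℕ) : (∀ l ∈ w, l < 6) →
    ev gen (w.reverse.map invl) = (ev gen w)⁻¹ := by
  induction w with
  | nil => intro _; simp [ev]
  | cons l w ih =>
    intro h
    rw [List.reverse_cons, List.map_append, ev_append, ev_cons,
      ih (fun x hx => h x (List.mem_cons_of_mem _ hx)), mul_inv_rev]
    simp only [List.map_cons, List.map_nil, ev_cons, ev_nil, mul_one]
    rw [M.gen_invl (h l List.mem_cons_self)]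

include M in
/-- every element of the generated subgroup is the value of a word -/
theorem Model.closure_word {g : E} (hg : g ∈ Subgroup.closure {gen 0, gen 1, gen 2}) :
    ∃ w : List ℕ, (∀ l ∈ w, l < 6) ∧ ev gen w = g := by
  induction hg using Subgroup.closure_induction with
  | mem x hx =>
    rcases hx with rfl | rfl | rfl
    · exact ⟨[0], by simp, by simp [ev]⟩
    · exact ⟨[1], by simp, by simp [ev]⟩
    · exact ⟨[2], by simp, by simp [ev]⟩
  | one => exact ⟨[], by simp, rfl⟩
  | mul x y _ _ hx hy =>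
    obtain ⟨w, hw, rfl⟩ := hx
    obtain ⟨w', hw', rfl⟩ := hy
    refine ⟨w ++ w', ?_, ev_append gen w w'⟩
    intro l hl
    rcases List.mem_append.mp hl with h | h
    · exact hw l h
    · exact hw' l h
  | inv x _ hx =>
    obtain ⟨w, hw, rfl⟩ := hx
    refine ⟨w.reverse.map invl, ?_, M.ev_inv w hw⟩
    intro l hl
    obtain ⟨a, ha, rfl⟩ := List.mem_map.mp hl
    exact invl_lt (hw a (List.mem_reverse.mp ha))

end

end Cfsg.Agent.Lib.Helper5.M23Coh
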