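import Cfsg.Agent.Lib.Helper5.M23Coh.DRows0
import Cfsg.Agent.Lib.Helper5.M23Coh.DRows1
import Cfsg.Agent.Lib.Helper5.M23Coh.DRows2
import Cfsg.Agent.Lib.Helper5.M23Coh.DRows3
import Cfsg.Agent.Lib.Helper5.M23Coh.DTree
import Cfsg.Agent.Lib.Helper5.M23Coh.DFaces0
import Cfsg.Agent.Lib.Helper5.M23Coh.DFaces1
import Cfsg.Agent.Lib.Helper5.M23Coh.DFaces2
import Cfsg.Agent.Lib.Helper5.M23Coh.DFaces3
import Cfsg.Agent.Lib.Helper5.M23Coh.Machine2

/-!
# The coset complex of `M23` over `23:11`: reading the tables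
-/

set_option autoImplicit false

namespace Cfsg.Agent.Lib.Helper5.M23Coh

/-- the rows of the vertices `2520 k`, …, `2520 k + 2519` -/
def rowC (k : ℕ) : ℕ :=
  match k with
  | 0 => rowsD0
  | 1 => rowsD1
  | 2 => rowsD2
  | 3 => rowsD3
  | 4 => rowsD4
  | 5 => rowsD5
  | 6 => rowsD6
  | 7 => rowsD7
  | 8 => rowsD8
  | 9 => rowsD9
  | 10 => rowsD10
  | 11 => rowsD11
  | 12 => rowsD12
  | 13 => rowsD13
  | 14 => rowsD14
  | 15 => rowsD15
  | _ => 0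

/-- the vertex reached from `ω` by the letter `l` -/
def nxT (ω l : ℕ) : ℕ :=
  Nat.land (Nat.shiftRight (rowC (Nat.div ω 2520))
    (Nat.add (Nat.mul 171 (Nat.mod ω 2520)) (Nat.mul 16 l))) 65535

/-- the code in `23:11` of the edge `(ω, j)` -/
def bbT (ω j : ℕ) : ℕ :=
  Nat.land (Nat.shiftRight (rowC (Nat.div ω 2520))
    (Nat.add (Nat.mul 171 (Nat.mod ω 2520)) (Nat.add 96 (Nat.mul 8 j)))) 255

/-- the number of the edge `(ω, j)` in the order of deduction -/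
def rkT (ω j : ℕ) : ℕ :=
  Nat.land (Nat.shiftRight (rowC (Nat.div ω 2520))
    (Nat.add (Nat.mul 171 (Nat.mod ω 2520)) (Nat.add 120 (Nat.mul 17 j)))) 131071

/-- the parent of a vertex -/
def parT (ω : ℕ) : ℕ := Nat.land (Nat.shiftRight treeD (Nat.mul 19 ω)) 65535

/-- the letter of the tree edge from the parent -/
def plT (ω : ℕ) : ℕ := Nat.land (Nat.shiftRight treeD (Nat.add (Nat.mul 19 ω) 16)) 7

/-- the deductions number `5040 k`, …, `5040 k + 5039` -/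
def faceC (k : ℕ) : ℕ :=
  match k with
  | 0 => facesD0
  | 1 => facesD1
  | 2 => facesD2
  | 3 => facesD3
  | 4 => facesD4
  | 5 => facesD5
  | 6 => facesD6
  | 7 => facesD7
  | 8 => facesD8
  | 9 => facesD9
  | 10 => facesD10
  | 11 => facesD11
  | 12 => facesD12
  | 13 => facesD13
  | 14 => facesD14
  | 15 => facesD15
  | _ => 0

/-- base vertex of the deduction number `i` -/
def fbaseT (i : ℕ) : ℕ :=
  Nat.land (Nat.shiftRight (faceC (Nat.div i 5040)) (Nat.mul 43 (Nat.mod i 5040))) 65535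

/-- relator instance of the deduction number `i` -/
def finstT (i : ℕ) : ℕ :=
  Nat.land (Nat.shiftRight (faceC (Nat.div i 5040)) (Nat.add (Nat.mul 43 (Nat.mod i 5040)) 16)) 2047

/-- source vertex of the edge number `i` -/
def ftgtT (i : ℕ) : ℕ :=
  Nat.land (Nat.shiftRight (faceC (Nat.div i 5040)) (Nat.add (Nat.mul 43 (Nat.mod i 5040)) 27)) 65535

/-- the eleven relators (letters `0, 1, 2` are the generators, `3, 4, 5` their inverses) -/
def relW (r : ℕ) : List ℕ :=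
  match r with
  | 0 => [0, 0, 0, 0, 0, 0, 0, 0, 0, 0, 0, 0, 0, 0, 0, 0, 0, 0, 0, 0, 0, 0, 0]
  | 1 => [1, 1, 1, 1, 1, 1, 1, 1, 1, 1, 1]
  | 2 => [3, 3, 1, 0, 4]
  | 3 => [5, 4, 2, 1, 1, 1, 1]
  | 4 => [2, 4, 5, 1, 1, 1]
  | 5 => [2, 2, 2, 2, 2]
  | 6 => [2, 4, 5, 3, 1, 1, 1, 0, 0, 0]
  | 7 => [1, 1, 1, 1, 1, 1, 1, 1, 1, 1, 2, 2, 3, 3, 5, 3, 1, 5, 3, 2, 0, 0, 0, 0, 0, 0, 0, 0]
  | 8 => [5, 3, 5, 3, 5, 3, 5, 3, 5, 3, 5, 0, 0, 0, 0, 0, 0, 0, 0, 0, 0, 0, 0, 0, 0, 0, 0, 0, 0, 0, 0, 0, 0]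
  | 9 => [1, 1, 1, 1, 1, 1, 2, 0, 5, 1, 1, 5, 3, 5, 1, 0, 0, 2, 0, 0, 0, 0, 0, 0, 0, 0]
  | 10 => [1, 1, 1, 1, 1, 1, 5, 3, 5, 0, 4, 2, 3, 2, 3, 5, 0, 2, 0, 0, 0, 0, 0, 0, 0]
  | _ => []

/-- the inverse word -/
def invW (w : List ℕ) : List ℕ := w.reverse.map invl

/-- the relator or its inverse -/
def sgnW (q : ℕ) : List ℕ :=
  if Nat.beq (Nat.mod q 2) 0 then relW (Nat.div q 2) else invW (relW (Nat.div q 2))

/-- the words of the relator instances: `64 (2 r + s) + k` is the relator `r` (inverted if `s = 1`)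
rotated by `k` letters -/
def iwT (i : ℕ) : List ℕ :=
  (sgnW (Nat.div i 64)).drop (Nat.mod i 64) ++ (sgnW (Nat.div i 64)).take (Nat.mod i 64)

/-- the complex without labels -/
def certD : Cert Unit where
  nV := 40320
  nF := 80639
  nx := nxT
  bb := bbT
  rk := rkT
  par := parT
  pl := plT
  fbase := fbaseT
  finst := finstT
  ftgt := ftgtT
  iw := iwT
  zero := ()
  add := fun _ _ => ()
  tw := fun _ _ => ()
  lab := fun _ => ()
  il := fun _ _ => ()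
  iok := fun _ i => Nat.blt i 1408
  beq := fun _ _ => true

end Cfsg.Agent.Lib.Helper5.M23Coh
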