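import Cfsg.Agent.H9.M23GenA
import Cfsg.Agent.Lib.Helper5.M23Coh.Tabs

/-!
# The three generators of `M23` as coded permutations
-/

set_option autoImplicit false
set_option maxRecDepth 1000000

namespace Cfsg.Agent.Lib.Helper5.M23Coh

open Cfsg Cfsg.Agent.Lib.Helper6.Golay Cfsg.Agent.Lib.Helper6.Golay.M12Out Cfsg.Agent.H9.NatPerm
open Cfsg.Agent.H9.FusGrp

/-- the codes of the six letters: `t ↦ t + 1`, `t ↦ 2 t`, an element of order 5, and their inverses -/
def gcode (l : ℕ) : ℕ :=
  match l with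
  | 0 => 956302485175575353788796878166559809
  | 1 => 983435072843990828779021698901151808
  | 2 => 974380510768821363662145534143076928
  | 3 => 983478296959358443554250846857397270
  | 4 => 970567384681219435340729552166356352
  | 5 => 980275914351787324191492553553580224
  | _ => idc

/-- the list of the six codes -/
def gcodes : List ℕ := (List.range 6).map gcode

theorem gcodes_chk : (gcodes.map dec24).all chkL = true := by decide +kernel

theorem gcodes_23 : gcodes.all chk23 = true := by decide +kernel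

theorem gcode_mem : ∀ c ∈ gcodes, ∃ g ∈ Spor.M23, IsC g c :=
  exists_mem_of_lists (fun hg hc hf => mem_M23_of_isC hg hc hf) gcodes_chk rfl gcodes_23

theorem gcode_ex {l : ℕ} (hl : l < 6) : ∃ g ∈ Spor.M23, IsC g (gcode l) :=
  gcode_mem _ (List.mem_map.2 ⟨l, List.mem_range.2 hl, rfl⟩)

open Classical in
/-- the six letters as permutations -/
noncomputable def gP (l : ℕ) : Equiv.Perm GolayPt :=
  if h : ∃ g ∈ Spor.M23, IsC g (gcode l) then Classical.choose h else 1

theorem gP_spec {l : ℕ} (hl : l < 6) : gP l ∈ Spor.M23 ∧ IsC (gP l) (gcode l) := by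
  unfold gP
  rw [dif_pos (gcode_ex hl)]
  exact Classical.choose_spec (gcode_ex hl)

/-- the code of a word -/
def wcode (w : List ℕ) : ℕ := w.foldr (fun l c => pmul (gcode l) c) idc

theorem wcode_cons (l : ℕ) (w : List ℕ) : wcode (l :: w) = pmul (gcode l) (wcode w) := by
  simp only [wcode, List.foldr_cons]

theorem wcode_nil : wcode [] = idc := by
  simp only [wcode, List.foldr_nil]

theorem isC_wcode : ∀ w : List ℕ, (∀ l ∈ w, l < 6) → IsC ((w.map gP).prod) (wcode w)
  | [], _ => by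
    rw [List.map_nil, List.prod_nil, wcode_nil]; exact isC_one
  | l :: w, h => by
    rw [List.map_cons, List.prod_cons, wcode_cons]
    exact (gP_spec (h l List.mem_cons_self)).2.mul (isC_wcode w fun x hx => h x (List.mem_cons_of_mem _ hx))

theorem wprod_eq {w w' : List ℕ} (hw : ∀ l ∈ w, l < 6) (hw' : ∀ l ∈ w', l < 6)
    (h : wcode w = wcode w') : (w.map gP).prod = (w'.map gP).prod := by
  have h1 := isC_wcode w hw
  rw [h] at h1
  exact h1.ext (isC_wcode w' hw')

theorem gP_inv {j : ℕ} (hj : j < 3) : gP (j + 3) = (gP j)⁻¹ := by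
  have h := wprod_eq (w := [j, j + 3]) (w' := []) (by intro l hl; simp at hl; omega) (by simp)
    (by interval_cases j <;> decide +kernel)
  simp only [List.map_cons, List.map_nil, List.prod_cons, List.prod_nil, mul_one] at h
  exact eq_inv_of_mul_eq_one_right h

theorem rel_codes : ∀ r < 11, wcode (relW r) = idc := by decide +kernel

theorem relW_lt : ∀ r < 11, ∀ l ∈ relW r, l < 6 := by decide

theorem gP_x23 : gP 0 ^ 23 = 1 := by
  have := wprod_eq (w := relW 0) (w' := []) (relW_lt 0 (by norm_num)) (by simp) (rel_codes 0 (by norm_num))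
  simpa [relW, pow_succ, mul_assoc] using this

theorem gP_y11 : gP 1 ^ 11 = 1 := by
  have := wprod_eq (w := relW 1) (w' := []) (relW_lt 1 (by norm_num)) (by simp) (rel_codes 1 (by norm_num))
  simpa [relW, pow_succ, mul_assoc] using this

theorem gP_s5 : gP 2 ^ 5 = 1 := by
  have := wprod_eq (w := relW 5) (w' := []) (relW_lt 5 (by norm_num)) (by simp) (rel_codes 5 (by norm_num))
  simpa [relW, pow_succ, mul_assoc] using this

theorem gP_yx : gP 1 * gP 0 * (gP 1)⁻¹ = gP 0 ^ 2 := by
  have := wprod_eq (w := [1, 0, 4]) (w' := [0, 0]) (by decide) (by decide) (by decide +kernel)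
  simp only [List.map_cons, List.map_nil, List.prod_cons, List.prod_nil, mul_one] at this
  rw [gP_inv (j := 1) (by norm_num)] at this
  rw [pow_two, ← this]; group

theorem gP_sy : gP 2 * gP 1 * (gP 2)⁻¹ = gP 1 ^ 3 := by
  have := wprod_eq (w := [2, 1, 5]) (w' := [1, 1, 1]) (by decide) (by decide) (by decide +kernel)
  simp only [List.map_cons, List.map_nil, List.prod_cons, List.prod_nil, mul_one] at this
  rw [gP_inv (j := 2) (by norm_num)] at this
  calc gP 2 * gP 1 * (gP 2)⁻¹ = gP 2 * (gP 1 * (gP 2)⁻¹) := mul_assoc _ _ _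
    _ = gP 1 * (gP 1 * gP 1) := this
    _ = gP 1 ^ 3 := by rw [pow_succ, pow_two, mul_assoc]

/-- **the three permutations generate `M23`** -/
theorem closure_gP : Subgroup.closure {gP 0, gP 1, gP 2} = Spor.M23 := by
  have hle : Subgroup.closure {gP 0, gP 1, gP 2} ≤ Spor.M23 := by
    rw [Subgroup.closure_le]
    rintro g (rfl | rfl | rfl)
    · exact (gP_spec (by norm_num)).1
    · exact (gP_spec (by norm_num)).1
    · exact (gP_spec (by norm_num)).1
  have hmem : ∀ l < 6, gP l ∈ Subgroup.closure {gP 0, gP 1, gP 2} := by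
    intro l hl
    have h0 : gP 0 ∈ Subgroup.closure {gP 0, gP 1, gP 2} := Subgroup.subset_closure (by simp)
    have h1 : gP 1 ∈ Subgroup.closure {gP 0, gP 1, gP 2} := Subgroup.subset_closure (by simp)
    have h2 : gP 2 ∈ Subgroup.closure {gP 0, gP 1, gP 2} := Subgroup.subset_closure (by simp)
    interval_cases l
    · exact h0
    · exact h1
    · exact h2
    · rw [gP_inv (j := 0) (by norm_num)]; exact inv_mem h0
    · rw [gP_inv (j := 1) (by norm_num)]; exact inv_mem h1
    · rw [gP_inv (j := 2) (by norm_num)]; exact inv_mem h2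
  have hw : ∀ w : List ℕ, (∀ l ∈ w, l < 6) → (w.map gP).prod ∈ Subgroup.closure {gP 0, gP 1, gP 2} := by
    intro w hw
    apply Subgroup.list_prod_mem
    intro g hg
    obtain ⟨l, hl, rfl⟩ := List.mem_map.mp hg
    exact hmem l (hw l hl)
  apply Cfsg.Agent.H9.M23Gen.eq_M23_of_gens _ hle
  · refine ⟨_, hw [0, 5, 3, 2, 3, 3, 2, 0, 2, 0, 0, 0, 0, 0, 1, 1] (by decide), ?_⟩
    have := isC_wcode [0, 5, 3, 2, 3, 3, 2, 0, 2, 0, 0, 0, 0, 0, 1, 1] (by decide)
    have e : wcode [0, 5, 3, 2, 3, 3, 2, 0, 2, 0, 0, 0, 0, 0, 1, 1] = Cfsg.Agent.H9.M23Grp.ga := by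
      decide +kernel
    rwa [e] at this
  · refine ⟨_, hw [3, 5, 0, 1, 0, 0, 2, 0, 5, 0, 0, 0, 0, 0, 0, 0, 0, 0, 1, 1, 1, 1, 1, 1, 1, 1, 1] (by decide), ?_⟩
    have := isC_wcode [3, 5, 0, 1, 0, 0, 2, 0, 5, 0, 0, 0, 0, 0, 0, 0, 0, 0, 1, 1, 1, 1, 1, 1, 1, 1, 1] (by decide)
    have e : wcode [3, 5, 0, 1, 0, 0, 2, 0, 5, 0, 0, 0, 0, 0, 0, 0, 0, 0, 1, 1, 1, 1, 1, 1, 1, 1, 1] =
        Cfsg.Agent.H9.M23Grp.gb := by
      decide +kernel
    rwa [e] at this

end Cfsg.Agent.Lib.Helper5.M23Coh
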