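import Mathlib

/-!
# Labelled coset complexes over the group `23:11`

A vertex `ω` carries an element `tau ω` (a tree word in the generators); an edge says
`gen j * tau ω = tau ω' * β b * n` with `b` a code of an element of the base group and `n` an
element of a normal subgroup described by a label.  Edges are deduced one by one from relator
instances all of whose other edges are known already; the bookkeeping is checked by evaluation.
-/

set_option autoImplicit false

namespace Cfsg.Agent.Lib.Helper5.M23Coh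

/-- product of two codes of the group `23:11`: the code `23 k + i` is the map `t ↦ 2^k t + i` -/
def bmul (a b : ℕ) : ℕ :=
  Nat.add (Nat.mod (Nat.add (Nat.mod a 23) (Nat.mul (Nat.pow 2 (Nat.div a 23)) (Nat.mod b 23))) 23)
    (Nat.mul 23 (Nat.mod (Nat.add (Nat.div a 23) (Nat.div b 23)) 11))

/-- inverse of a code of the group `23:11` -/
def binv (a : ℕ) : ℕ :=
  Nat.add (Nat.mod (Nat.sub 23 (Nat.mod (Nat.mul (Nat.pow 2 (Nat.mod (Nat.sub 11 (Nat.div a 23)) 11))
    (Nat.mod a 23)) 23)) 23) (Nat.mul 23 (Nat.mod (Nat.sub 11 (Nat.div a 23)) 11))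

theorem bmul_lt (a b : ℕ) : bmul a b < 253 := by
  unfold bmul
  have h1 := Nat.mod_lt (Nat.add (Nat.mod a 23) (Nat.mul (Nat.pow 2 (Nat.div a 23)) (Nat.mod b 23)))
    (show 0 < 23 by norm_num)
  have h2 := Nat.mod_lt (Nat.add (Nat.div a 23) (Nat.div b 23)) (show 0 < 11 by norm_num)
  generalize Nat.add (Nat.mod a 23) (Nat.mul (Nat.pow 2 (Nat.div a 23)) (Nat.mod b 23)) = u at h1 ⊢
  generalize Nat.add (Nat.div a 23) (Nat.div b 23) = v at h2 ⊢
  show u % 23 + 23 * (v % 11) < 253
  omega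

theorem binv_lt (a : ℕ) : binv a < 253 := by
  unfold binv
  have h1 := Nat.mod_lt (Nat.sub 23 (Nat.mod (Nat.mul (Nat.pow 2 (Nat.mod (Nat.sub 11 (Nat.div a 23)) 11))
    (Nat.mod a 23)) 23)) (show 0 < 23 by norm_num)
  have h2 := Nat.mod_lt (Nat.sub 11 (Nat.div a 23)) (show 0 < 11 by norm_num)
  generalize Nat.sub 23 (Nat.mod (Nat.mul (Nat.pow 2 (Nat.mod (Nat.sub 11 (Nat.div a 23)) 11))
    (Nat.mod a 23)) 23) = u at h1 ⊢
  generalize Nat.sub 11 (Nat.div a 23) = v at h2 ⊢
  show u % 23 + 23 * (v % 11) < 253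
  omega

/-- `allB f n`: the Boolean `f 0 && … && f (n-1)` -/
def allB (f : ℕ → Bool) : ℕ → Bool
  | 0 => true
  | n + 1 => f n && allB f n

theorem allB_spec {f : ℕ → Bool} : ∀ {n : ℕ}, allB f n = true → ∀ m < n, f m = true
  | 0, _, m, hm => absurd hm (Nat.not_lt_zero m)
  | n + 1, h, m, hm => by
    rw [allB, Bool.and_eq_true] at h
    rcases Nat.lt_succ_iff_lt_or_eq.mp hm with h' | rfl
    · exact allB_spec h.2 m h'
    · exact h.1

/-- `allR f a n`: the Boolean `f a && … && f (a+n-1)` -/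
def allR (f : ℕ → Bool) (a : ℕ) : ℕ → Bool
  | 0 => true
  | n + 1 => f (a + n) && allR f a n

theorem allR_spec {f : ℕ → Bool} {a : ℕ} : ∀ {n : ℕ}, allR f a n = true → ∀ m, a ≤ m → m < a + n → f m = true
  | 0, _, m, h1, h2 => by omega
  | n + 1, h, m, h1, h2 => by
    rw [allR, Bool.and_eq_true] at h
    rcases Nat.lt_or_ge m (a + n) with h' | h'
    · exact allR_spec h.2 m h1 h'
    · have : m = a + n := by omega
      rw [this]; exact h.1

theorem binv_mul_aux : allB (fun a => Nat.beq (bmul (binv a) a) 0) 253 = true := by decide +kernel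

theorem binv_mul {a : ℕ} (ha : a < 253) : bmul (binv a) a = 0 :=
  Nat.eq_of_beq_eq_true (allB_spec binv_mul_aux a ha)

/-- the static data of a labelled coset complex -/
structure Cert (Λ : Type) where
  /-- number of vertices -/
  nV : ℕ
  /-- number of deduced edges -/
  nF : ℕ
  /-- `nx ω l`: the vertex reached from `ω` by the letter `l < 6` -/
  nx : ℕ → ℕ → ℕ
  /-- `bb ω j`: the base group code of the edge `(ω, j)`, `j < 3` -/
  bb : ℕ → ℕ → ℕ
  /-- `rk ω j`: the number of the edge `(ω, j)`, `j < 3`, in the order of deduction -/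
  rk : ℕ → ℕ → ℕ
  /-- parent of a vertex in the tree -/
  par : ℕ → ℕ
  /-- letter of the tree edge from the parent -/
  pl : ℕ → ℕ
  /-- base vertex of the relator instance deducing the edge number `i` -/
  fbase : ℕ → ℕ
  /-- relator instance deducing the edge number `i` -/
  finst : ℕ → ℕ
  /-- source vertex of the edge number `i` -/
  ftgt : ℕ → ℕ
  /-- the words of the relator instances -/
  iw : ℕ → List ℕ
  /-- zero label -/
  zero : Λ
  /-- sum of labels -/
  add : Λ → Λ → Λ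
  /-- action of (the inverse of) a base group code on labels -/
  tw : ℕ → Λ → Λ
  /-- label of the edge number `i` -/
  lab : ℕ → Λ
  /-- label of a relator instance moved to a vertex -/
  il : ℕ → ℕ → Λ
  /-- the relator instance may be used at the vertex -/
  iok : ℕ → ℕ → Bool
  /-- comparison of labels -/
  beq : Λ → Λ → Bool

section
variable {Λ : Type} (C : Cert Λ) {E : Type*} [Group E] (gen : ℕ → E)

/-- value of a word -/
def ev (w : List ℕ) : E := (w.map gen).prod

theorem ev_nil : ev gen [] = 1 := rfl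

theorem ev_cons (l : ℕ) (w : List ℕ) : ev gen (l :: w) = gen l * ev gen w := by
  simp [ev]

theorem ev_append (w w' : List ℕ) : ev gen (w ++ w') = ev gen w * ev gen w' := by
  simp [ev]

/-- the tree elements -/
noncomputable def tau (ω : ℕ) : E :=
  if h : 0 < ω ∧ C.par ω < ω then gen (C.pl ω) * tau (C.par ω) else 1
termination_by ω
decreasing_by exact h.2

theorem tau_zero : tau C gen 0 = 1 := by
  rw [tau]; simp

theorem tau_pos {ω : ℕ} (h0 : 0 < ω) (h : C.par ω < ω) :
    tau C gen ω = gen (C.pl ω) * tau C gen (C.par ω) := by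
  rw [tau]; simp [h0, h]

/-- the group side of a labelled coset complex -/
structure Model where
  /-- inverse letters -/
  gen_inv : ∀ j, j < 3 → gen (j + 3) = (gen j)⁻¹
  /-- the base group -/
  β : ℕ → E
  β_zero : β 0 = 1
  β_mul : ∀ a b, a < 253 → b < 253 → β (bmul a b) = β a * β b
  β_x : β 1 = gen 0
  β_y : β 23 = gen 1
  /-- the element is described by the label -/
  Rep : E → Λ → Prop
  rep_one : Rep 1 C.zero
  rep_mul : ∀ {a b : E} {L M : Λ}, Rep a L → Rep b M → Rep (a * b) (C.add L M)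
  rep_inv : ∀ {a : E} {L : Λ}, Rep a L → Rep a⁻¹ L
  rep_tw : ∀ {a : E} {L : Λ} (b : ℕ), b < 253 → Rep a L → Rep ((β b)⁻¹ * a * β b) (C.tw b L)
  rep_beq : ∀ {a : E} {L M : Λ}, C.beq M L = true → Rep a L → Rep a M
  lab_zero : C.lab 0 = C.zero
  rep_inst : ∀ ω i, C.iok ω i = true →
    Rep ((tau C gen ω)⁻¹ * ev gen (C.iw i) * tau C gen ω) (C.il ω i)

variable {C gen} (M : Model C gen)

theorem Model.β_inv {b : ℕ} (hb : b < 253) : M.β (binv b) = (M.β b)⁻¹ := by
  have h := M.β_mul (binv b) b (binv_lt b) hb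
  rw [binv_mul hb, M.β_zero] at h
  exact eq_inv_of_mul_eq_one_left h.symm

/-- the statement attached to the edge `(ω, j)` -/
def Model.Claim (ω j : ℕ) : Prop :=
  ∃ n : E, gen j * tau C gen ω = tau C gen (C.nx ω j) * M.β (C.bb ω j) * n ∧ M.Rep n (C.lab (C.rk ω j))

/-- all edges of number `< i` are known -/
def Model.Known (i : ℕ) : Prop :=
  ∀ ω j, ω < C.nV → j < 3 → C.rk ω j < i → M.Claim ω j

end

section
variable {Λ : Type} (C : Cert Λ)

/-- the data read along a letter `l < 6` at a vertex -/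
def look (ω l : ℕ) : ℕ × ℕ × Λ :=
  if Nat.blt l 3 then (C.nx ω l, C.bb ω l, C.lab (C.rk ω l))
  else (C.nx ω l, binv (C.bb (C.nx ω l) (Nat.sub l 3)),
    C.tw (binv (C.bb (C.nx ω l) (Nat.sub l 3))) (C.lab (C.rk (C.nx ω l) (Nat.sub l 3))))

/-- the letter `l` may be read at the vertex `ω` when the edges of number `< i` are known -/
def stepOK (i ω l : ℕ) : Bool :=
  Nat.blt ω C.nV &&
  (if Nat.blt l 3 then Nat.blt (C.rk ω l) i && Nat.blt (C.bb ω l) 253
   else Nat.blt l 6 && Nat.blt (C.nx ω l) C.nV && Nat.blt (C.rk (C.nx ω l) (Nat.sub l 3)) i &&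
     Nat.beq (C.nx (C.nx ω l) (Nat.sub l 3)) ω && Nat.blt (C.bb (C.nx ω l) (Nat.sub l 3)) 253)

/-- reading a word (its last letter first) from a vertex -/
def walk (i : ℕ) : List ℕ → ℕ → Option (ℕ × ℕ × Λ)
  | [], ω => some (ω, 0, C.zero)
  | l :: v, ω =>
    match walk i v ω with
    | none => none
    | some (ω₁, b, L) =>
      if stepOK C i ω₁ l then
        some ((look C ω₁ l).1, bmul (look C ω₁ l).2.1 b, C.add (C.tw b (look C ω₁ l).2.2) L)
      else none

/-- the check of the deduction of the edge number `i` -/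
def faceOK (i : ℕ) : Bool :=
  match C.iw (C.finst i) with
  | [] => false
  | l :: v =>
    Nat.blt l 3 && C.iok (C.fbase i) (C.finst i) &&
    match walk C i v (C.fbase i) with
    | none => false
    | some (ω₁, b₁, L₁) =>
      Nat.beq ω₁ (C.ftgt i) && Nat.blt ω₁ C.nV && Nat.beq (C.rk ω₁ l) i &&
        Nat.beq (C.nx ω₁ l) (C.fbase i) && Nat.beq (C.bb ω₁ l) (binv b₁) &&
        C.beq (C.lab i) (C.tw (binv b₁) (C.add (C.il (C.fbase i) (C.finst i)) L₁))

/-- the first letter of a word is `j` -/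
def headIs : List ℕ → ℕ → Bool
  | [], _ => false
  | l :: _, j => Nat.beq l j

/-- the edge `(ω, j)` is the one deduced by the relator instance of its number -/
def edgeOK (ω j : ℕ) : Bool :=
  Nat.beq (C.rk ω j) 0 || Nat.blt C.nF (C.rk ω j) ||
    (Nat.beq (C.ftgt (C.rk ω j)) ω && headIs (C.iw (C.finst (C.rk ω j))) j)

/-- the edges of number `0` are tree edges or the two loops at the base vertex -/
def initOK (ω j : ℕ) : Bool :=
  !(Nat.beq (C.rk ω j) 0) ||
  (Nat.blt 0 (C.nx ω j) && Nat.beq (C.par (C.nx ω j)) ω && Nat.beq (C.pl (C.nx ω j)) j &&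
    Nat.blt (C.par (C.nx ω j)) (C.nx ω j) && Nat.beq (C.bb ω j) 0) ||
  (Nat.blt 0 ω && Nat.beq (C.par ω) (C.nx ω j) && Nat.beq (C.pl ω) (j + 3) &&
    Nat.blt (C.par ω) ω && Nat.beq (C.bb ω j) 0) ||
  (Nat.beq ω 0 && Nat.beq (C.nx ω j) 0 &&
    ((Nat.beq j 0 && Nat.beq (C.bb ω j) 1) || (Nat.beq j 1 && Nat.beq (C.bb ω j) 23)))

end

section
variable {Λ : Type} {C : Cert Λ} {E : Type*} [Group E] {gen : ℕ → E} (M : Model C gen)

theorem Model.look_sound {i ω l : ℕ} (hK : M.Known i) (h : stepOK C i ω l = true) :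
    (look C ω l).2.1 < 253 ∧ ∃ n : E, gen l * tau C gen ω =
      tau C gen (look C ω l).1 * M.β (look C ω l).2.1 * n ∧ M.Rep n (look C ω l).2.2 := by
  unfold stepOK at h
  rw [Bool.and_eq_true] at h
  obtain ⟨hω, h⟩ := h
  have hω' : ω < C.nV := by simpa using hω
  by_cases hl : Nat.blt l 3 = true
  · rw [if_pos hl] at h
    rw [Bool.and_eq_true] at h
    have hl3 : l < 3 := by simpa using hl
    have h1 : C.rk ω l < i := by simpa using h.1
    have h2 : C.bb ω l < 253 := by simpa using h.2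
    unfold look
    rw [if_pos hl]
    exact ⟨h2, hK ω l hω' hl3 h1⟩
  · rw [if_neg hl] at h
    simp only [Bool.and_eq_true] at h
    obtain ⟨⟨⟨⟨h6, hv⟩, hr⟩, hb⟩, hc⟩ := h
    have hl3 : 3 ≤ l := by
      have : ¬ l < 3 := by simpa using hl
      omega
    have hl6 : l < 6 := by simpa using h6
    have hv' : C.nx ω l < C.nV := by simpa using hv
    have hr' : C.rk (C.nx ω l) (l - 3) < i := by simpa using hr
    have hb' : C.nx (C.nx ω l) (l - 3) = ω := Nat.eq_of_beq_eq_true hb
    have hc' : C.bb (C.nx ω l) (l - 3) < 253 := by simpa using hc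
    unfold look
    rw [if_neg hl]
    refine ⟨binv_lt _, ?_⟩
    obtain ⟨n, hn, hR⟩ := hK (C.nx ω l) (l - 3) hv' (by omega) hr'
    have hg : gen l = (gen (l - 3))⁻¹ := by
      have := M.gen_inv (l - 3) (by omega)
      rwa [Nat.sub_add_cancel hl3] at this
    rw [hb'] at hn
    show ∃ n : E, gen l * tau C gen ω = tau C gen (C.nx ω l) * M.β (binv (C.bb (C.nx ω l) (l - 3))) * n ∧
      M.Rep n (C.tw (binv (C.bb (C.nx ω l) (l - 3))) (C.lab (C.rk (C.nx ω l) (l - 3))))
    refine ⟨(M.β (binv (C.bb (C.nx ω l) (l - 3))))⁻¹ * n⁻¹ * M.β (binv (C.bb (C.nx ω l) (l - 3))), ?_,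
      M.rep_tw _ (binv_lt _) (M.rep_inv hR)⟩
    rw [hg, M.β_inv hc']
    have : tau C gen (C.nx ω l) = (gen (l - 3))⁻¹ * (tau C gen ω * M.β (C.bb (C.nx ω l) (l - 3)) * n) := by
      rw [← hn]; group
    rw [this]
    group

theorem Model.walk_sound {i : ℕ} (hK : M.Known i) : ∀ (v : List ℕ) (ω ω₁ b : ℕ) (L : Λ),
    walk C i v ω = some (ω₁, b, L) →
    b < 253 ∧ ∃ n : E, ev gen v * tau C gen ω = tau C gen ω₁ * M.β b * n ∧ M.Rep n L := by
  intro v
  induction v with
  | nil =>
    intro ω ω₁ b L h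
    simp only [walk, Option.some.injEq, Prod.mk.injEq] at h
    obtain ⟨rfl, rfl, rfl⟩ := h
    refine ⟨by norm_num, 1, ?_, M.rep_one⟩
    rw [ev_nil, M.β_zero]; group
  | cons l v ih =>
    intro ω ω₂ b' L' h
    rw [walk] at h
    rcases hw : walk C i v ω with _ | ⟨ω₁, b, L⟩
    · rw [hw] at h; exact absurd h (by simp)
    · rw [hw] at h
      simp only at h
      by_cases hs : stepOK C i ω₁ l = true
      · rw [if_pos hs] at h
        simp only [Option.some.injEq, Prod.mk.injEq] at h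
        obtain ⟨rfl, rfl, rfl⟩ := h
        obtain ⟨hb, n, hn, hR⟩ := ih ω ω₁ b L hw
        obtain ⟨hb2, n₂, hn₂, hR₂⟩ := M.look_sound hK hs
        refine ⟨bmul_lt _ _, (M.β b)⁻¹ * n₂ * M.β b * n, ?_, M.rep_mul (M.rep_tw b hb hR₂) hR⟩
        rw [ev_cons, mul_assoc, hn, M.β_mul _ _ hb2 hb, ← mul_assoc, ← mul_assoc, hn₂]
        group
      · rw [if_neg hs] at h; exact absurd h (by simp)

theorem Model.face_sound {i : ℕ} (hK : M.Known i) (h : faceOK C i = true) :
    ∃ l, headIs (C.iw (C.finst i)) l = true ∧ C.rk (C.ftgt i) l = i ∧ M.Claim (C.ftgt i) l := by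
  unfold faceOK at h
  rcases hw : C.iw (C.finst i) with _ | ⟨l, v⟩
  · rw [hw] at h; exact absurd h (by simp)
  · rw [hw] at h
    simp only [Bool.and_eq_true] at h
    obtain ⟨⟨hl, hok⟩, h⟩ := h
    rcases hwk : walk C i v (C.fbase i) with _ | ⟨ω₁, b₁, L₁⟩
    · rw [hwk] at h; exact absurd h (by simp)
    · rw [hwk] at h
      simp only [Bool.and_eq_true] at h
      obtain ⟨⟨⟨⟨⟨h1, h2⟩, h3⟩, h4⟩, h5⟩, h6⟩ := h
      have e1 : ω₁ = C.ftgt i := Nat.eq_of_beq_eq_true h1
      have e3 : C.rk ω₁ l = i := Nat.eq_of_beq_eq_true h3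
      have e4 : C.nx ω₁ l = C.fbase i := Nat.eq_of_beq_eq_true h4
      have e5 : C.bb ω₁ l = binv b₁ := Nat.eq_of_beq_eq_true h5
      obtain ⟨hb, n, hn, hR⟩ := M.walk_sound hK v _ _ _ _ hwk
      have hI := M.rep_inst _ _ hok
      rw [hw] at hI
      refine ⟨l, by simp [headIs], e1 ▸ e3, ?_⟩
      rw [← e1]
      unfold Model.Claim
      rw [e3, e4, e5]
      refine ⟨(M.β (binv b₁))⁻¹ * ((tau C gen (C.fbase i))⁻¹ * ev gen (l :: v) * tau C gen (C.fbase i) * n⁻¹) *
        M.β (binv b₁), ?_, M.rep_beq h6 (M.rep_tw _ (binv_lt _) (M.rep_mul hI (M.rep_inv hR)))⟩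
      rw [M.β_inv hb, ev_cons]
      have : tau C gen ω₁ = (ev gen v * tau C gen (C.fbase i)) * (M.β b₁ * n)⁻¹ := by
        rw [hn]; group
      rw [this]
      group

theorem Model.init_sound {ω j : ℕ} (hj : j < 3) (h : initOK C ω j = true) (h0 : C.rk ω j = 0) :
    M.Claim ω j := by
  unfold initOK at h
  rw [h0] at h
  simp only [Nat.beq_refl, Bool.not_true, Bool.false_or, Bool.or_eq_true, Bool.and_eq_true] at h
  unfold Model.Claim
  rw [h0, M.lab_zero]
  rcases h with (⟨⟨⟨⟨a1, a2⟩, a3⟩, a4⟩, a5⟩ | ⟨⟨⟨⟨a1, a2⟩, a3⟩, a4⟩, a5⟩) | ⟨⟨a1, a2⟩, a3⟩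
  · have b1 : 0 < C.nx ω j := by simpa using a1
    have b2 : C.par (C.nx ω j) = ω := Nat.eq_of_beq_eq_true a2
    have b3 : C.pl (C.nx ω j) = j := Nat.eq_of_beq_eq_true a3
    have b4 : C.par (C.nx ω j) < C.nx ω j := by simpa using a4
    have b5 : C.bb ω j = 0 := Nat.eq_of_beq_eq_true a5
    refine ⟨1, ?_, M.rep_one⟩
    rw [tau_pos C gen b1 b4, b2, b3, b5, M.β_zero]; group
  · have b1 : 0 < ω := by simpa using a1
    have b2 : C.par ω = C.nx ω j := Nat.eq_of_beq_eq_true a2
    have b3 : C.pl ω = j + 3 := Nat.eq_of_beq_eq_true a3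
    have b4 : C.par ω < ω := by simpa using a4
    have b5 : C.bb ω j = 0 := Nat.eq_of_beq_eq_true a5
    refine ⟨1, ?_, M.rep_one⟩
    rw [tau_pos C gen b1 b4, b2, b3, b5, M.β_zero, M.gen_inv j hj]; group
  · have b1 : ω = 0 := Nat.eq_of_beq_eq_true a1
    have b2 : C.nx ω j = 0 := Nat.eq_of_beq_eq_true a2
    refine ⟨1, ?_, M.rep_one⟩
    rw [b2]
    subst b1
    rw [tau_zero]
    rcases a3 with ⟨c1, c2⟩ | ⟨c1, c2⟩
    · have d1 : j = 0 := Nat.eq_of_beq_eq_true c1
      subst d1
      rw [Nat.eq_of_beq_eq_true c2, M.β_x]; group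
    · have d1 : j = 1 := Nat.eq_of_beq_eq_true c1
      subst d1
      rw [Nat.eq_of_beq_eq_true c2, M.β_y]; group

/-- **all edges up to the number `nF` are known** -/
theorem Model.known_all (h1 : ∀ ω < C.nV, ∀ j < 3, initOK C ω j = true)
    (h2 : ∀ ω < C.nV, ∀ j < 3, edgeOK C ω j = true)
    (h3 : ∀ i, 0 < i → i ≤ C.nF → faceOK C i = true) :
    ∀ i, i ≤ C.nF + 1 → M.Known i := by
  intro i
  induction i with
  | zero => intro _ ω j _ _ h; exact absurd h (Nat.not_lt_zero _)
  | succ i ih =>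
    intro hi ω j hω hj hr
    have hK := ih (by omega)
    rcases Nat.lt_succ_iff_lt_or_eq.mp hr with hr' | hr'
    · exact hK ω j hω hj hr'
    · rcases Nat.eq_zero_or_pos i with h0 | h0
      · exact M.init_sound hj (h1 ω hω j hj) (by omega)
      · obtain ⟨l, hl, hrk, hC⟩ := M.face_sound hK (h3 i h0 (by omega))
        have he := h2 ω hω j hj
        unfold edgeOK at he
        rw [hr'] at he
        have n1 : Nat.beq i 0 = false := by
          rw [Bool.eq_false_iff]; intro h; exact absurd (Nat.eq_of_beq_eq_true h) (by omega)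
        have n2 : Nat.blt C.nF i = false := by
          rw [Bool.eq_false_iff]; intro h
          have : C.nF < i := by simpa using h
          omega
        rw [n1, n2, Bool.false_or, Bool.false_or, Bool.and_eq_true] at he
        have e1 : C.ftgt i = ω := Nat.eq_of_beq_eq_true he.1
        have e2 : l = j := by
          rcases hw : C.iw (C.finst i) with _ | ⟨a, v⟩
          · rw [hw] at hl; exact absurd hl (by simp [headIs])
          · rw [hw] at hl
            have hh := he.2
            rw [hw] at hh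
            simp only [headIs] at hl hh
            rw [← Nat.eq_of_beq_eq_true hl, ← Nat.eq_of_beq_eq_true hh]
        rw [← e1, ← e2]
        exact hC

end

end Cfsg.Agent.Lib.Helper5.M23Coh
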