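import Cfsg.Agent.Lib.Helper5.M23Coh.Tabs
import Cfsg.Agent.Lib.Helper5.M23Coh.Base

/-!
# A group generated by three elements satisfying the eleven relators modulo a normal subgroup:
the group side of the complex without labels
-/

set_option autoImplicit false

namespace Cfsg.Agent.Lib.Helper5.M23Coh

section
variable {E : Type*} [Group E]

/-- the six letters -/
def gen6 (x y s : E) (l : ℕ) : E :=
  match l with
  | 0 => x
  | 1 => y
  | 2 => s
  | 3 => x⁻¹
  | 4 => y⁻¹
  | 5 => s⁻¹
  | _ => 1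

theorem gen6_inv (x y s : E) : ∀ j, j < 3 → gen6 x y s (j + 3) = (gen6 x y s j)⁻¹ := by
  intro j hj
  interval_cases j <;> rfl

theorem gen6_invl (x y s : E) {l : ℕ} (hl : l < 6) : gen6 x y s (invl l) = (gen6 x y s l)⁻¹ := by
  interval_cases l <;> simp [invl, gen6]

theorem ev_invW (x y s : E) (w : List ℕ) : (∀ l ∈ w, l < 6) →
    ev (gen6 x y s) (invW w) = (ev (gen6 x y s) w)⁻¹ := by
  unfold invW
  induction w with
  | nil => intro _; simp [ev]
  | cons l w ih =>
    intro h
    rw [List.reverse_cons, List.map_append, ev_append, ev_cons,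
      ih (fun a ha => h a (List.mem_cons_of_mem _ ha)), mul_inv_rev]
    simp only [List.map_cons, List.map_nil, ev_cons, ev_nil, mul_one]
    rw [gen6_invl x y s (h l List.mem_cons_self)]

theorem relW_lt6 : ∀ r, ∀ l ∈ relW r, l < 6 := by
  intro r
  by_cases hr : r < 11
  · revert r; decide
  · have : relW r = [] := by
      unfold relW
      split <;> first | omega | rfl
    rw [this]; simp

/-- the value of a relator instance is a conjugate of the value of a relator or of its inverse -/
theorem ev_iwT (x y s : E) (i : ℕ) : ∃ u : E,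
    ev (gen6 x y s) (iwT i) = u⁻¹ * ev (gen6 x y s) (relW (i / 64 / 2)) * u ∨
    ev (gen6 x y s) (iwT i) = u⁻¹ * (ev (gen6 x y s) (relW (i / 64 / 2)))⁻¹ * u := by
  have hrot : ∀ (w : List ℕ) (k : ℕ), ev (gen6 x y s) (w.drop k ++ w.take k) =
      (ev (gen6 x y s) (w.take k))⁻¹ * ev (gen6 x y s) w * ev (gen6 x y s) (w.take k) := by
    intro w k
    conv_rhs => rw [← List.take_append_drop k w]
    rw [ev_append, ev_append, List.take_append_drop]; group
  have e : ev (gen6 x y s) (iwT i) = (ev (gen6 x y s) ((sgnW (i / 64)).take (i % 64)))⁻¹ *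
      ev (gen6 x y s) (sgnW (i / 64)) * ev (gen6 x y s) ((sgnW (i / 64)).take (i % 64)) :=
    hrot (sgnW (i / 64)) (i % 64)
  refine ⟨ev (gen6 x y s) ((sgnW (i / 64)).take (i % 64)), ?_⟩
  by_cases h : Nat.beq (Nat.mod (i / 64) 2) 0 = true
  · have hw : sgnW (i / 64) = relW (i / 64 / 2) := by
      unfold sgnW; rw [if_pos h]; rfl
    left
    rw [e]
    congr 2
    rw [hw]
  · have hw : ev (gen6 x y s) (sgnW (i / 64)) = (ev (gen6 x y s) (relW (i / 64 / 2)))⁻¹ := by
      unfold sgnW; rw [if_neg h, ev_invW x y s _ (relW_lt6 _)]; rfl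
    right
    rw [e, hw]


theorem sgnW_lt6 (q : ℕ) : ∀ l ∈ sgnW q, l < 6 := by
  intro l hl
  unfold sgnW at hl
  split at hl
  · exact relW_lt6 _ l hl
  · unfold invW at hl
    obtain ⟨a, ha, rfl⟩ := List.mem_map.mp hl
    exact invl_lt (relW_lt6 _ a (List.mem_reverse.mp ha))

theorem ev_sgnW (x y s : E) (q : ℕ) :
    ev (gen6 x y s) (sgnW q) = ev (gen6 x y s) (relW (q / 2)) ∨
    ev (gen6 x y s) (sgnW q) = (ev (gen6 x y s) (relW (q / 2)))⁻¹ := by
  unfold sgnW
  by_cases h : Nat.beq (Nat.mod q 2) 0 = true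
  · left; rw [if_pos h]; rfl
  · right; rw [if_neg h, ev_invW x y s _ (relW_lt6 _)]; rfl

theorem ev_iwT_rot (x y s : E) (i : ℕ) :
    ev (gen6 x y s) (iwT i) = (ev (gen6 x y s) ((sgnW (i / 64)).take (i % 64)))⁻¹ *
      ev (gen6 x y s) (sgnW (i / 64)) * ev (gen6 x y s) ((sgnW (i / 64)).take (i % 64)) := by
  show ev (gen6 x y s) ((sgnW (i / 64)).drop (i % 64) ++ (sgnW (i / 64)).take (i % 64)) = _
  conv_rhs => rw [← List.take_append_drop (i % 64) (sgnW (i / 64))]
  rw [ev_append, ev_append, List.take_append_drop]; group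

variable (Mn : Subgroup E) [Mn.Normal]

/-- the group side of the complex without labels -/
def modelD {x y s : E} (hx : x ^ 23 = 1) (hy : y ^ 11 = 1) (hyx : y * x * y⁻¹ = x ^ 2)
    (hrel : ∀ r < 11, ev (gen6 x y s) (relW r) ∈ Mn) : Model certD (gen6 x y s) where
  gen_inv := gen6_inv x y s
  β := beta x y
  β_zero := beta_zero x y
  β_mul := fun a b _ _ => beta_mul hx hy hyx a b
  β_x := beta_one x y
  β_y := beta_23 x y
  Rep := fun m _ => m ∈ Mn
  rep_one := Mn.one_mem
  rep_mul := fun ha hb => Mn.mul_mem ha hb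
  rep_inv := fun ha => Mn.inv_mem ha
  rep_tw := fun b _ ha => by
    have := Subgroup.Normal.conj_mem (inferInstance : Mn.Normal) _ ha (beta x y b)⁻¹
    rwa [inv_inv] at this
  rep_beq := fun _ ha => ha
  lab_zero := rfl
  rep_inst := fun ω i _ => by
    have hr : ev (gen6 x y s) (relW (i / 64 / 2)) ∈ Mn := by
      by_cases h : i / 64 / 2 < 11
      · exact hrel _ h
      · have : relW (i / 64 / 2) = [] := by
          unfold relW
          split <;> first | omega | rfl
        rw [this, ev_nil]; exact Mn.one_mem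
    have key : ev (gen6 x y s) (iwT i) ∈ Mn := by
      obtain ⟨u, hu | hu⟩ := ev_iwT x y s i
      · rw [hu]
        have := Subgroup.Normal.conj_mem (inferInstance : Mn.Normal) _ hr u⁻¹
        rwa [inv_inv] at this
      · rw [hu]
        have := Subgroup.Normal.conj_mem (inferInstance : Mn.Normal) _ (Mn.inv_mem hr) u⁻¹
        rwa [inv_inv] at this
    have := Subgroup.Normal.conj_mem (inferInstance : Mn.Normal) _ key (tau certD (gen6 x y s) ω)⁻¹
    rwa [inv_inv] at this

end

end Cfsg.Agent.Lib.Helper5.M23Coh
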