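import Cfsg.Agent.Lib.Helper5.M23Coh.ChkV0
import Cfsg.Agent.Lib.Helper5.M23Coh.ChkV1
import Cfsg.Agent.Lib.Helper5.M23Coh.ChkV2
import Cfsg.Agent.Lib.Helper5.M23Coh.ChkV3
import Cfsg.Agent.Lib.Helper5.M23Coh.ChkV4
import Cfsg.Agent.Lib.Helper5.M23Coh.ChkV5
import Cfsg.Agent.Lib.Helper5.M23Coh.ChkV6
import Cfsg.Agent.Lib.Helper5.M23Coh.ChkV7
import Cfsg.Agent.Lib.Helper5.M23Coh.ChkD1
import Cfsg.Agent.Lib.Helper5.M23Coh.ChkD2
import Cfsg.Agent.Lib.Helper5.M23Coh.ChkD3
import Cfsg.Agent.Lib.Helper5.M23Coh.ChkD4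
import Cfsg.Agent.Lib.Helper5.M23Coh.ChkD5
import Cfsg.Agent.Lib.Helper5.M23Coh.ChkD6
import Cfsg.Agent.Lib.Helper5.M23Coh.ChkD7
import Cfsg.Agent.Lib.Helper5.M23Coh.ChkD8
import Cfsg.Agent.Lib.Helper5.M23Coh.ChkD9
import Cfsg.Agent.Lib.Helper5.M23Coh.ChkD10
import Cfsg.Agent.Lib.Helper5.M23Coh.PartD0

/-!
# A group generated by three elements satisfying the eleven relators modulo a normal subgroup

Every element of the generated subgroup is a tree element times an element of the base group `23:11`
times an element of the normal subgroup; there are `40320 * 253` such products modulo the subgroup.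
-/

set_option autoImplicit false

namespace Cfsg.Agent.Lib.Helper5.M23Coh

theorem certD_init3 : ∀ ω < 40320, (initOK certD ω 0 && initOK certD ω 1 && initOK certD ω 2) = true := by
  intro ω hω
  by_cases h0 : ω < 5040
  · exact allR_spec chkD_init0 ω (by omega) (by omega)
  by_cases h1 : ω < 10080
  · exact allR_spec chkD_init1 ω (by omega) (by omega)
  by_cases h2 : ω < 15120
  · exact allR_spec chkD_init2 ω (by omega) (by omega)
  by_cases h3 : ω < 20160
  · exact allR_spec chkD_init3 ω (by omega) (by omega)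
  by_cases h4 : ω < 25200
  · exact allR_spec chkD_init4 ω (by omega) (by omega)
  by_cases h5 : ω < 30240
  · exact allR_spec chkD_init5 ω (by omega) (by omega)
  by_cases h6 : ω < 35280
  · exact allR_spec chkD_init6 ω (by omega) (by omega)
  · exact allR_spec chkD_init7 ω (by omega) (by omega)

theorem certD_edge3 : ∀ ω < 40320, (edgeOK certD ω 0 && edgeOK certD ω 1 && edgeOK certD ω 2) = true := by
  intro ω hω
  by_cases h0 : ω < 5040
  · exact allR_spec chkD_edge0 ω (by omega) (by omega)
  by_cases h1 : ω < 10080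
  · exact allR_spec chkD_edge1 ω (by omega) (by omega)
  by_cases h2 : ω < 15120
  · exact allR_spec chkD_edge2 ω (by omega) (by omega)
  by_cases h3 : ω < 20160
  · exact allR_spec chkD_edge3 ω (by omega) (by omega)
  by_cases h4 : ω < 25200
  · exact allR_spec chkD_edge4 ω (by omega) (by omega)
  by_cases h5 : ω < 30240
  · exact allR_spec chkD_edge5 ω (by omega) (by omega)
  by_cases h6 : ω < 35280
  · exact allR_spec chkD_edge6 ω (by omega) (by omega)
  · exact allR_spec chkD_edge7 ω (by omega) (by omega)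

theorem certD_vert : ∀ ω < certD.nV, vertOK certD ω = true := by
  intro ω hω
  have hω' : ω < 40320 := hω
  by_cases h0 : ω < 5040
  · exact allR_spec chkD_vert0 ω (by omega) (by omega)
  by_cases h1 : ω < 10080
  · exact allR_spec chkD_vert1 ω (by omega) (by omega)
  by_cases h2 : ω < 15120
  · exact allR_spec chkD_vert2 ω (by omega) (by omega)
  by_cases h3 : ω < 20160
  · exact allR_spec chkD_vert3 ω (by omega) (by omega)
  by_cases h4 : ω < 25200
  · exact allR_spec chkD_vert4 ω (by omega) (by omega)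
  by_cases h5 : ω < 30240
  · exact allR_spec chkD_vert5 ω (by omega) (by omega)
  by_cases h6 : ω < 35280
  · exact allR_spec chkD_vert6 ω (by omega) (by omega)
  · exact allR_spec chkD_vert7 ω (by omega) (by omega)

theorem certD_init : ∀ ω < certD.nV, ∀ j < 3, initOK certD ω j = true := by
  intro ω hω j hj
  have h := certD_init3 ω hω
  simp only [Bool.and_eq_true] at h
  interval_cases j
  · exact h.1.1
  · exact h.1.2
  · exact h.2

theorem certD_edge : ∀ ω < certD.nV, ∀ j < 3, edgeOK certD ω j = true := by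
  intro ω hω j hj
  have h := certD_edge3 ω hω
  simp only [Bool.and_eq_true] at h
  interval_cases j
  · exact h.1.1
  · exact h.1.2
  · exact h.2

theorem certD_face : ∀ i, 0 < i → i ≤ certD.nF → faceOK certD i = true := by
  intro i h0 hi
  have hi' : i ≤ 80639 := hi
  by_cases h1 : i < 10081
  · exact allR_spec chkD_face0 i (by omega) (by omega)
  by_cases h2 : i < 20161
  · exact allR_spec chkD_face1 i (by omega) (by omega)
  by_cases h3 : i < 30241
  · exact allR_spec chkD_face2 i (by omega) (by omega)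
  by_cases h4 : i < 40321
  · exact allR_spec chkD_face3 i (by omega) (by omega)
  by_cases h5 : i < 50401
  · exact allR_spec chkD_face4 i (by omega) (by omega)
  by_cases h6 : i < 60481
  · exact allR_spec chkD_face5 i (by omega) (by omega)
  by_cases h7 : i < 65521
  · exact allR_spec chkD_face6a i (by omega) (by omega)
  by_cases h8 : i < 70561
  · exact allR_spec chkD_face6b i (by omega) (by omega)
  by_cases h9 : i < 75601
  · exact allR_spec chkD_face7a i (by omega) (by omega)
  · exact allR_spec chkD_face7b i (by omega) (by omega)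

section
variable {E : Type*} [Group E] (Mn : Subgroup E) [Mn.Normal]

/-- **the normal form of the elements of the generated subgroup** -/
theorem closure_form {x y s : E} (hx : x ^ 23 = 1) (hy : y ^ 11 = 1) (hyx : y * x * y⁻¹ = x ^ 2)
    (hrel : ∀ r < 11, ev (gen6 x y s) (relW r) ∈ Mn) {g : E} (hg : g ∈ Subgroup.closure {x, y, s}) :
    ∃ ω < 40320, ∃ b < 253, ∃ m ∈ Mn, g = tau certD (gen6 x y s) ω * beta x y b * m := by
  let M := modelD Mn hx hy hyx hrel
  have hK : M.Known (certD.nF + 1) :=
    M.known_all certD_init certD_edge certD_face _ le_rfl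
  obtain ⟨w, hw, rfl⟩ := M.closure_word (show g ∈ Subgroup.closure {gen6 x y s 0, gen6 x y s 1, gen6 x y s 2} from hg)
  obtain ⟨ω, hω, b, hb, m, _, hm, he⟩ := M.word_form hK (by decide) certD_vert w hw
  exact ⟨ω, hω, b, hb, m, hm, he⟩

/-- **the order of the generated subgroup is at most `40320 * 253` times the order of the normal
subgroup** -/
theorem card_closure_le [Finite Mn] {x y s : E} (hx : x ^ 23 = 1) (hy : y ^ 11 = 1)
    (hyx : y * x * y⁻¹ = x ^ 2) (hrel : ∀ r < 11, ev (gen6 x y s) (relW r) ∈ Mn)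
    (K : Subgroup E) (hK : ∀ g ∈ K, ∃ k ∈ Subgroup.closure {x, y, s}, ∃ m ∈ Mn, g = k * m) :
    Nat.card K ≤ 40320 * 253 * Nat.card Mn := by
  classical
  have key : ∀ g : K, ∃ t : Fin 40320 × Fin 253 × Mn,
      (g : E) = tau certD (gen6 x y s) t.1 * beta x y t.2.1 * (t.2.2 : E) := by
    intro g
    obtain ⟨k, hk, m, hm, hg⟩ := hK g g.2
    obtain ⟨ω, hω, b, hb, m', hm', he⟩ := closure_form Mn hx hy hyx hrel hk
    refine ⟨(⟨ω, hω⟩, ⟨b, hb⟩, ⟨m' * m, Mn.mul_mem hm' hm⟩), ?_⟩
    rw [hg, he]
    simp only [mul_assoc]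
  choose F hF using key
  have inj : Function.Injective F := by
    intro g g' h
    apply Subtype.ext
    rw [hF g, hF g', h]
  calc Nat.card K ≤ Nat.card (Fin 40320 × Fin 253 × Mn) := Nat.card_le_card_of_injective F inj
    _ = 40320 * 253 * Nat.card Mn := by
      rw [Nat.card_prod, Nat.card_prod, Nat.card_fin, Nat.card_fin, mul_assoc]

end

end Cfsg.Agent.Lib.Helper5.M23Coh
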