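import Cfsg.Agent.Lib.Helper5.M23Coh.CertA
import Cfsg.Agent.Lib.Helper5.M23Coh.PartD0

/-!
# Lifts of the generators: their images in `M23`
-/

set_option autoImplicit false
set_option maxRecDepth 1000000

namespace Cfsg.Agent.Lib.Helper5.M23Coh

open Cfsg Cfsg.Agent.Lib.Helper6.Golay Cfsg.Agent.Lib.Helper6.Golay.M12Out Cfsg.Agent.H9.NatPerm

/-- the word of the element with code `b` of the group `23:11` -/
def bword (b : ℕ) : List ℕ := List.replicate (Nat.mod b 23) 0 ++ List.replicate (Nat.div b 23) 1

theorem bword_dig : allB (fun b => allB (fun p => Nat.beq (aget (wcode (bword b)) p) (bpt b p)) 23) 253 = true := by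
  decide +kernel

theorem isC_aget_lt {g : Equiv.Perm GolayPt} {c : ℕ} (h : IsC g c) {i : ℕ} (hi : i < 24) : aget c i < 24 := by
  have := getD_lt h.1 hi
  rwa [getD_dec24 c hi] at this

theorem isC_aget_lt23 {g : Equiv.Perm GolayPt} {c : ℕ} (h : IsC g c) (hg : g ∈ Spor.M23) {i : ℕ}
    (hi : i < 23) : aget c i < 23 := by
  have h1 := isC_aget_lt h (show i < 24 by omega)
  by_contra hne
  have h23 : aget c i = 23 := by omega
  have hfix : g (none : GolayPt) = none := by
    have : g ∈ MulAction.stabilizer (Equiv.Perm GolayPt) (none : GolayPt) := hg.2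
    rwa [MulAction.mem_stabilizer_iff] at this
  have e1 := h.apply (show i < 24 by omega)
  rw [h23] at e1
  have e2 : (pt 23 : GolayPt) = none := by decide
  rw [e2, ← hfix] at e1
  have e3 := g.injective e1
  have key : ∀ j < 23, pt j ≠ (none : GolayPt) := by decide
  exact key i hi e3

section
variable {E : Type*} [Group E] (π : E →* Equiv.Perm GolayPt) {x y s : E}

theorem pi_gen6 (hx : π x = gP 0) (hy : π y = gP 1) (hs : π s = gP 2) :
    ∀ l < 6, π (gen6 x y s l) = gP l := by
  intro l hl
  interval_cases l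
  · exact hx
  · exact hy
  · exact hs
  · show π x⁻¹ = gP (0 + 3); rw [map_inv, hx, gP_inv (by norm_num)]
  · show π y⁻¹ = gP (1 + 3); rw [map_inv, hy, gP_inv (by norm_num)]
  · show π s⁻¹ = gP (2 + 3); rw [map_inv, hs, gP_inv (by norm_num)]

theorem pi_ev (hx : π x = gP 0) (hy : π y = gP 1) (hs : π s = gP 2) (w : List ℕ) :
    (∀ l ∈ w, l < 6) → π (ev (gen6 x y s) w) = (w.map gP).prod := by
  induction w with
  | nil => intro _; simp [ev]
  | cons l w ih =>
    intro h
    rw [ev_cons, map_mul, pi_gen6 π hx hy hs l (h l List.mem_cons_self),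
      ih (fun a ha => h a (List.mem_cons_of_mem _ ha)), List.map_cons, List.prod_cons]

theorem isC_ev (hx : π x = gP 0) (hy : π y = gP 1) (hs : π s = gP 2) (w : List ℕ)
    (hw : ∀ l ∈ w, l < 6) : IsC (π (ev (gen6 x y s) w)) (wcode w) := by
  rw [pi_ev π hx hy hs w hw]; exact isC_wcode w hw

theorem pi_rel (hx : π x = gP 0) (hy : π y = gP 1) (hs : π s = gP 2) {r : ℕ} (hr : r < 11) :
    π (ev (gen6 x y s) (relW r)) = 1 := by
  have h := isC_ev π hx hy hs (relW r) (relW_lt6 r)
  rw [rel_codes r hr] at h
  exact h.ext isC_one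

theorem isC_tau (hx : π x = gP 0) (hy : π y = gP 1) (hs : π s = gP 2) {Λ : Type} (C : Cert Λ)
    (hpar : C.par = parT) (hpl : C.pl = plT) :
    ∀ (f ω : ℕ), reach f ω = true → IsC (π (tau C (gen6 x y s) ω)) (gwf f ω) := by
  intro f
  induction f with
  | zero =>
    intro ω h
    have h0 : ω = 0 := Nat.eq_of_beq_eq_true h
    subst h0
    rw [tau_zero, map_one]; exact isC_one
  | succ f ih =>
    intro ω h
    rw [reach, Bool.or_eq_true] at h
    by_cases h0 : ω = 0
    · subst h0
      rw [tau_zero, map_one, gwf]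
      exact isC_one
    · have hb : Nat.beq ω 0 = false := by
        rw [Bool.eq_false_iff]; intro hh; exact h0 (Nat.eq_of_beq_eq_true hh)
      rw [hb] at h
      simp only [Bool.false_eq_true, false_or, Bool.and_eq_true] at h
      obtain ⟨⟨h1, h2⟩, h3⟩ := h
      have h1' : parT ω < ω := by simpa using h1
      have h2' : plT ω < 6 := by simpa using h2
      rw [gwf, hb]
      simp only [Bool.false_eq_true, if_false]
      rw [tau_pos C _ (Nat.pos_of_ne_zero h0) (by rw [hpar]; exact h1'), hpar, hpl, map_mul,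
        pi_gen6 π hx hy hs _ h2']
      exact (gP_spec h2').2.mul (ih _ h3)

theorem ev_replicate (gen : ℕ → E) (n l : ℕ) : ev gen (List.replicate n l) = gen l ^ n := by
  simp [ev]

theorem pi_beta (hx : π x = gP 0) (hy : π y = gP 1) (hs : π s = gP 2) {b : ℕ} (hb : b < 253)
    {p : ℕ} (hp : p < 23) : π (beta x y b) (pt p) = pt (bpt b p) := by
  have e : beta x y b = ev (gen6 x y s) (bword b) := by
    unfold beta bword
    rw [ev_append, ev_replicate, ev_replicate]; rfl
  have hw : ∀ l ∈ bword b, l < 6 := by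
    intro l hl
    unfold bword at hl
    rcases List.mem_append.mp hl with h | h
    · rw [List.eq_of_mem_replicate h]; norm_num
    · rw [List.eq_of_mem_replicate h]; norm_num
  have h := isC_ev π hx hy hs (bword b) hw
  rw [e, h.apply (show p < 24 by omega)]
  have := allB_spec (allB_spec bword_dig b hb) p hp
  rw [Nat.eq_of_beq_eq_true this]

end

end Cfsg.Agent.Lib.Helper5.M23Coh
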