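import Cfsg.Agent.Lib.Helper5.M23Coh.PiSetup
import Cfsg.Agent.Lib.Helper5.M23Coh.Base2

/-!
# An extension of `M23`: the projection, lifts of the generators, the exact relators
-/

set_option autoImplicit false

namespace Cfsg.Agent.Lib.Helper5.M23Coh

open Cfsg Cfsg.Agent.Lib.Helper6.Golay Cfsg.Agent.H9.NatPerm

section
variable {E : Type*} [Group E] (N : Subgroup E) [hN : N.Normal] (φ : E ⧸ N ≃* ↥Spor.M23)

/-- the projection of the extension onto `M23`, as a map to the permutations of the 24 points -/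
def proj : E →* Equiv.Perm GolayPt :=
  (Subgroup.subtype Spor.M23).comp (φ.toMonoidHom.comp (QuotientGroup.mk' N))

theorem proj_apply (g : E) :
    proj N φ g = ((φ (QuotientGroup.mk g) : ↥Spor.M23) : Equiv.Perm GolayPt) := rfl

theorem proj_mem (g : E) : proj N φ g ∈ Spor.M23 := (φ (QuotientGroup.mk g)).2

theorem proj_eq_one_iff (g : E) : proj N φ g = 1 ↔ g ∈ N := by
  rw [proj_apply]
  constructor
  · intro h
    have h1 : φ (QuotientGroup.mk g) = 1 := Subtype.ext h
    have h2 : (QuotientGroup.mk g : E ⧸ N) = 1 := by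
      rw [← φ.map_one] at h1; exact φ.injective h1
    exact (QuotientGroup.eq_one_iff g).mp h2
  · intro h
    have h2 : (QuotientGroup.mk g : E ⧸ N) = 1 := (QuotientGroup.eq_one_iff g).mpr h
    rw [h2, φ.map_one]; rfl

theorem proj_ker : (proj N φ).ker = N := by
  ext g
  rw [MonoidHom.mem_ker, proj_eq_one_iff]

theorem proj_surj {p : Equiv.Perm GolayPt} (hp : p ∈ Spor.M23) : ∃ e, proj N φ e = p := by
  obtain ⟨q, hq⟩ := φ.surjective ⟨p, hp⟩
  obtain ⟨e, rfl⟩ := QuotientGroup.mk_surjective q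
  exact ⟨e, by rw [proj_apply, hq]⟩

end

section
variable {E : Type*} [Group E]

/-- the relators number `0` to `5` hold exactly -/
theorem rel_exact {x y s : E} (hx : x ^ 23 = 1) (hy : y ^ 11 = 1) (hyx : y * x * y⁻¹ = x ^ 2)
    (hs : s ^ 5 = 1) (hsy : s * y * s⁻¹ = y ^ 3) : ∀ r < 6, ev (gen6 x y s) (relW r) = 1 := by
  intro r hr
  interval_cases r
  · show ev (gen6 x y s) (List.replicate 23 0) = 1
    rw [ev_replicate]; exact hx
  · show ev (gen6 x y s) (List.replicate 11 1) = 1
    rw [ev_replicate]; exact hy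
  · show x⁻¹ * (x⁻¹ * (y * (x * (y⁻¹ * 1)))) = 1
    have : y * (x * (y⁻¹ * 1)) = x ^ 2 := by rw [← hyx]; group
    rw [this]; group
  · show s⁻¹ * (y⁻¹ * (s * (y * (y * (y * (y * 1)))))) = 1
    have h4 : s * y ^ 4 * s⁻¹ = y := by
      have : s * y ^ 4 * s⁻¹ = (s * y * s⁻¹) ^ 4 := by rw [conj_pow]
      rw [this, hsy, ← pow_mul, pow_mod_of_pow_eq_one hy]
      norm_num
    have e4 : y ^ 4 = y * (y * (y * (y * 1))) := by
      simp only [pow_succ, pow_zero, one_mul, mul_one, mul_assoc]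
    have : s * (y * (y * (y * (y * 1)))) = y * s := by
      calc s * (y * (y * (y * (y * 1)))) = s * y ^ 4 := by rw [e4]
        _ = (s * y ^ 4 * s⁻¹) * s := by group
        _ = y * s := by rw [h4]
    rw [this]; group
  · show s * (y⁻¹ * (s⁻¹ * (y * (y * (y * 1))))) = 1
    have : y * (y * (y * 1)) = s * y * s⁻¹ := by
      rw [hsy]; simp only [pow_succ, pow_zero, one_mul, mul_one, mul_assoc]
    rw [this]; group
  · show ev (gen6 x y s) (List.replicate 5 2) = 1
    rw [ev_replicate]; exact hs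

end

end Cfsg.Agent.Lib.Helper5.M23Coh
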