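import Cfsg.Agent.Lib.Helper5.M23Coh.VMain

/-!
# Extensions of `M23` by its code module split: the complement
-/

set_option autoImplicit false

namespace Cfsg.Agent.Lib.Helper5.M23Coh.V

open Cfsg Cfsg.Agent.Lib.Helper6.Golay Cfsg.Agent.H9.NatPerm Cfsg.Agent.Lib.Helper5.M23Coh

/-- a subgroup generated by lifts of the generators which satisfy all relators modulo a normal
subgroup `Mn` inside the kernel: the map to `M23` of the product with `Mn` is onto -/
theorem map_closure_eq {E : Type*} [Group E] {N : Subgroup E} [hN : N.Normal] {φ : E ⧸ N ≃* ↥Spor.M23}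
    {x y s : E} (πx : proj N φ x = gP 0) (πy : proj N φ y = gP 1) (πs : proj N φ s = gP 2) :
    (Subgroup.closure {x, y, s}).map (proj N φ) = Spor.M23 := by
  rw [MonoidHom.map_closure, Set.image_insert_eq, Set.image_insert_eq, Set.image_singleton, πx, πy, πs]
  exact closure_gP

/-- lifts of the generators which satisfy all relators generate a complement -/
theorem complement_of_rel {E : Type*} [Group E] [Finite E] {N : Subgroup E} [hN : N.Normal]
    {φ : E ⧸ N ≃* ↥Spor.M23} {x y s : E} (Lf : Lifts N φ x y s)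
    (hrel : ∀ r < 11, ev (gen6 x y s) (relW r) = 1) :
    ∃ K : Subgroup E, K ⊓ N = ⊥ ∧ K ⊔ N = ⊤ := by
  obtain ⟨πx, πy, πs, hx, hy, hyx, hs, hsy⟩ := Lf
  refine ⟨Subgroup.closure {x, y, s}, ?_, ?_⟩
  · -- trivial intersection, by counting
    have hcard : Nat.card (Subgroup.closure {x, y, s}) ≤ 40320 * 253 * Nat.card (⊥ : Subgroup E) :=
      card_closure_le ⊥ hx hy hyx
        (fun r hr => by rw [hrel r hr]; exact Subgroup.one_mem _) _
        (fun g hg => ⟨g, hg, 1, Subgroup.one_mem _, by rw [mul_one]⟩)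
    rw [Subgroup.card_bot, mul_one] at hcard
    let f : Subgroup.closure {x, y, s} → ↥Spor.M23 := fun k => ⟨proj N φ k, proj_mem N φ k⟩
    have hsurj : Function.Surjective f := by
      rintro ⟨p, hp⟩
      rw [← map_closure_eq πx πy πs] at hp
      obtain ⟨k, hk, rfl⟩ := Subgroup.mem_map.mp hp
      exact ⟨⟨k, hk⟩, rfl⟩
    have hbij : Function.Bijective f :=
      hsurj.bijective_of_nat_card_le (by rw [Cfsg.Agent.H9.FusGrp.card_SporM23]; exact hcard)
    rw [eq_bot_iff]
    intro g hg
    rw [Subgroup.mem_inf] at hg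
    have h1 : f ⟨g, hg.1⟩ = f 1 := by
      apply Subtype.ext
      show proj N φ g = proj N φ 1
      rw [map_one]; exact (proj_eq_one_iff N φ g).mpr hg.2
    have := hbij.1 h1
    rw [Subgroup.mem_bot]
    exact congrArg Subtype.val this
  · -- the product is everything
    rw [eq_top_iff]
    intro e _
    have hp : proj N φ e ∈ (Subgroup.closure {x, y, s}).map (proj N φ) := by
      rw [map_closure_eq πx πy πs]; exact proj_mem N φ e
    obtain ⟨k, hk, hke⟩ := Subgroup.mem_map.mp hp
    have hn : k⁻¹ * e ∈ N := by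
      rw [← proj_eq_one_iff N φ, map_mul, map_inv, hke]; group
    have : e = k * (k⁻¹ * e) := by group
    rw [this]
    exact Subgroup.mul_mem_sup hk hn

/-- **the complement** -/
theorem exists_complement {E : Type*} [Group E] [Finite E] (N : Subgroup E) [hN : N.Normal]
    (φ : E ⧸ N ≃* ↥Spor.M23) (ψ : Additive ↥N →+ (GolayPt → ZMod 2)) (H : Hyp N φ ψ) :
    ∃ K : Subgroup E, K ⊓ N = ⊥ ∧ K ⊔ N = ⊤ := by
  obtain ⟨x, y, s, πx, πy, πs, hx, hy, hyx, hs, hsy⟩ := exists_lifts N (sq_eq_one' H) (proj N φ)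
    (proj_ker N φ) (proj_surj N φ (gP_spec (show 0 < 6 by norm_num)).1)
    (proj_surj N φ (gP_spec (show 1 < 6 by norm_num)).1)
    (proj_surj N φ (gP_spec (show 2 < 6 by norm_num)).1) gP_x23 gP_y11 gP_yx gP_s5 gP_sy
  have Lf : Lifts N φ x y s := ⟨πx, πy, πs, hx, hy, hyx, hs, hsy⟩
  exact complement_of_rel Lf (rel_all H Lf)

end Cfsg.Agent.Lib.Helper5.M23Coh.V
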