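import Cfsg.Agent.Lib.Helper5.M23Coh.VModel
import Cfsg.Agent.Lib.Helper5.M23Coh.PartD

/-!
# Extensions of `M23` by its code module split
-/

set_option autoImplicit false

namespace Cfsg.Agent.Lib.Helper5.M23Coh.V

open Cfsg Cfsg.Agent.Lib.Helper6.Golay Cfsg.Agent.H9.NatPerm Cfsg.Agent.Lib.Helper5.M23Coh

theorem certA_init : ∀ ω < certA.nV, ∀ j < 3, initOK certA ω j = true := by
  intro ω hω j hj
  have h := certD_init ω hω j hj
  have e : initOK certA ω j = initOK certD ω j := by
    simp only [initOK, certA, certD]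
  rw [e]; exact h

theorem certA_edge : ∀ ω < certA.nV, ∀ j < 3, edgeOK certA ω j = true := by
  intro ω hω j hj
  have h := certD_edge ω hω j hj
  simp only [edgeOK, certA, certD, Bool.or_eq_true, Bool.and_eq_true] at h ⊢
  rcases h with (h | h) | h
  · exact Or.inl (Or.inl h)
  · refine Or.inl (Or.inr ?_)
    have h' : 80639 < rkT ω j := by simpa using h
    have : 1043 < rkT ω j := by omega
    simpa using this
  · exact Or.inr h

theorem certA_face : ∀ i, 0 < i → i ≤ certA.nF → faceOK certA i = true := by
  intro i h0 hi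
  have hi' : i ≤ 1043 := hi
  exact allR_spec chkA_face i (by omega) (by omega)

section
variable {E : Type*} [Group E] {N : Subgroup E} [hN : N.Normal] {φ : E ⧸ N ≃* ↥Spor.M23}
  {ψ : Additive ↥N →+ (GolayPt → ZMod 2)} (H : Hyp N φ ψ) {x y s : E}

theorem known_V (Lf : Lifts N φ x y s) : (modelV H Lf).Known (certA.nF + 1) :=
  (modelV H Lf).known_all certA_init certA_edge certA_face _ le_rfl

/-- the blocks of the labels of the closed relator instances vanish at the unknown words -/
theorem kmask_zero (Lf : Lifts N φ x y s) : ∀ m ∈ kmasksV, dotE (avec H x y s) m = false := by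
  intro m hm
  unfold kmasksV at hm
  obtain ⟨L, hL, hm⟩ := List.mem_flatMap.mp hm
  obtain ⟨p, hp, rfl⟩ := List.mem_map.mp hm
  have hp' : p < 23 := List.mem_range.mp hp
  obtain ⟨k, hk, rfl⟩ := List.getElem_of_mem hL
  have hk7 : k < 7 := by simpa [consLs] using hk
  have hc := allB_spec chkA_cons k hk7
  have hget : consLs.getD k 0 = consLs[k]'hk := List.getD_eq_getElem _ _ hk
  rw [hget] at hc
  rcases hcons : consL certA (consV.getD k 0) (consI.getD k 0) with _ | L'
  · rw [hcons] at hc; exact absurd hc (by simp [optIs])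
  · rw [hcons] at hc
    have e : L' = consLs[k] := Nat.eq_of_beq_eq_true hc
    have hR := (modelV H Lf).cons_sound (known_V H Lf) hcons
    obtain ⟨h1, h1'⟩ := hR
    have := h1' p hp'
    have e1 : (⟨1, h1⟩ : ↥N) = 1 := rfl
    rw [e1, msk_one, Nat.zero_testBit, e] at this
    exact this.symm

/-- the parity checks of the unknown words -/
theorem hmask_zero : ∀ m ∈ hmasksV, dotE (avec H x y s) m = false := by
  intro m hm
  unfold hmasksV at hm
  obtain ⟨r, hr, hm⟩ := List.mem_flatMap.mp hm
  obtain ⟨h, hh, rfl⟩ := List.mem_map.mp hm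
  have hr5 : r < 5 := List.mem_range.mp hr
  obtain ⟨j, hj, rfl⟩ := List.getElem_of_mem hh
  have hj12 : j < 12 := by simpa [hsV] using hj
  have hget : hsV[j]'hj = hsV.getD j 0 := (List.getD_eq_getElem _ _ hj).symm
  rw [hget]
  have hsub : ∀ r' < 5, sub23 r' (Nat.shiftLeft (hsV.getD j 0) (Nat.mul 23 r)) =
      if Nat.beq r' r then hsV.getD j 0 else 0 := by
    intro r' hr'
    exact Nat.eq_of_beq_eq_true (allB_spec (allB_spec (allB_spec chkA_sub r hr5) j hj12) r' hr')
  have hpar : ∀ r', par23 (Nat.land (hsV.getD j 0) (avec H x y s r')) = false := by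
    intro r'
    obtain ⟨m, hm, e⟩ := avec_code H x y s r'
    have hb : Nat.testBit (combo m) 23 = false := by
      rw [← e]
      exact Nat.testBit_lt_two_pow (avec_lt H x y s r')
    have := allB_spec chkA_code m hm
    rw [hb, Bool.false_or] at this
    have := allB_spec this j hj12
    rw [e]
    simpa using this
  have hz : ∀ z, par23 (Nat.land 0 z) = false := by
    intro z
    show par23 (0 &&& z) = false
    rw [Nat.zero_and]; exact par23_zero
  have key : ∀ r', par23 (Nat.land (if Nat.beq r' r then hsV.getD j 0 else 0)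
      (avec H x y s r')) = false := by
    intro r'
    split
    · exact hpar r'
    · exact hz _
  unfold dotE
  rw [hsub 0 (by norm_num), hsub 1 (by norm_num), hsub 2 (by norm_num), hsub 3 (by norm_num),
    hsub 4 (by norm_num), key 0, key 1, key 2, key 3, key 4]
  rfl

theorem xorIdx_zero {a : ℕ → ℕ} {ms : List ℕ} (h : ∀ m ∈ ms, dotE a m = false) :
    ∀ l : List ℕ, dotE a (xorIdx ms l) = false := by
  intro l
  induction l with
  | nil => exact dotE_zero a
  | cons t l ih =>
    show dotE a (Nat.xor (ms.getD t 0) (xorIdx ms l)) = false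
    show dotE a ((ms.getD t 0) ^^^ (xorIdx ms l)) = false
    rw [dotE_xor, ih]
    have : dotE a (ms.getD t 0) = false := by
      by_cases ht : t < ms.length
      · rw [List.getD_eq_getElem _ _ ht]; exact h _ (List.getElem_mem ht)
      · rw [List.getD_eq_default _ _ (by omega)]; exact dotE_zero a
    rw [this]; rfl

/-- **the five unknown words vanish** -/
theorem avec_zero (Lf : Lifts N φ x y s) : ∀ r < 5, avec H x y s r = 0 := by
  have hall : ∀ m ∈ allMasksV, dotE (avec H x y s) m = false := by
    intro m hm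
    unfold allMasksV at hm
    rcases List.mem_append.mp hm with h | h
    · exact kmask_zero H Lf m h
    · exact hmask_zero H m h
  intro r hr
  apply Nat.eq_of_testBit_eq
  intro q
  rw [Nat.zero_testBit]
  by_cases hq : q < 23
  · have hi : 23 * r + q < 115 := by omega
    have h1 := Nat.eq_of_beq_eq_true (allB_spec chkA_lin (23 * r + q) hi)
    have h2 := xorIdx_zero hall (selV.getD (23 * r + q) [])
    rw [h1] at h2
    have h3 : Nat.pow 2 (23 * r + q) = 2 ^ (23 * r + q) := rfl
    rw [h3, dotE_unit _ hr hq] at h2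
    exact h2
  · exact Nat.testBit_lt_two_pow (lt_of_lt_of_le (avec_lt H x y s r)
      (Nat.pow_le_pow_right (by norm_num) (by omega)))

end

/-- **all relators hold** -/
theorem rel_all {E : Type*} [Group E] {N : Subgroup E} [hN : N.Normal] {φ : E ⧸ N ≃* ↥Spor.M23}
    {ψ : Additive ↥N →+ (GolayPt → ZMod 2)} (H : Hyp N φ ψ) {x y s : E}
    (Lf : Lifts N φ x y s) : ∀ r < 11, ev (gen6 x y s) (relW r) = 1 := by
  intro r hr
  by_cases h6 : r < 6
  · exact rel_exact Lf.hx Lf.hy Lf.hyx Lf.hs Lf.hsy r h6
  · obtain ⟨k, rfl⟩ : ∃ k, r = 6 + k := ⟨r - 6, by omega⟩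
    have hk : k < 5 := by omega
    have hmem : ev (gen6 x y s) (relW (6 + k)) ∈ N := Lf.rel_mem hr
    have h0 := avec_zero H Lf k hk
    unfold avec at h0
    rw [dif_pos hmem] at h0
    have := msk_eq_zero H h0
    exact congrArg Subtype.val this

end Cfsg.Agent.Lib.Helper5.M23Coh.V
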