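import Cfsg.Agent.Lib.Helper5.M23Coh.VSetup
import Cfsg.Agent.Lib.Helper5.M23Coh.ChkA2

/-!
# An extension of `M23` by its code module: the group side of the labelled complex
-/

set_option autoImplicit false

namespace Cfsg.Agent.Lib.Helper5.M23Coh.V

open Cfsg Cfsg.Agent.Lib.Helper6.Golay Cfsg.Agent.H9.NatPerm Cfsg.Agent.Lib.Helper5.M23Coh

section
variable {E : Type*} [Group E] {N : Subgroup E} [hN : N.Normal] {φ : E ⧸ N ≃* ↥Spor.M23}

/-- lifts of the three generators with the exact relations of `23:11` and `11:5` -/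
structure Lifts (N : Subgroup E) [hN : N.Normal] (φ : E ⧸ N ≃* ↥Spor.M23) (x y s : E) : Prop where
  πx : proj N φ x = gP 0
  πy : proj N φ y = gP 1
  πs : proj N φ s = gP 2
  hx : x ^ 23 = 1
  hy : y ^ 11 = 1
  hyx : y * x * y⁻¹ = x ^ 2
  hs : s ^ 5 = 1
  hsy : s * y * s⁻¹ = y ^ 3

theorem Lifts.rel_mem {x y s : E} (Lf : Lifts N φ x y s) {r : ℕ} (hr : r < 11) :
    ev (gen6 x y s) (relW r) ∈ N :=
  (proj_eq_one_iff N φ _).mp (pi_rel (proj N φ) Lf.πx Lf.πy Lf.πs hr)

variable {ψ : Additive ↥N →+ (GolayPt → ZMod 2)} (H : Hyp N φ ψ) (x y s : E)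

open Classical in
/-- the five unknown words: the values of the relators number `6` to `10` -/
noncomputable def avec (r : ℕ) : ℕ :=
  if h : ev (gen6 x y s) (relW (6 + r)) ∈ N then msk H ⟨_, h⟩ else 0

theorem avec_lt (r : ℕ) : avec H x y s r < 2 ^ 23 := by
  unfold avec
  split
  · exact msk_lt H _
  · norm_num

theorem avec_code (r : ℕ) : ∃ m < 4096, avec H x y s r = combo m := by
  unfold avec
  split
  · exact (inCode_iff _).mp (msk_code H _)
  · exact ⟨0, by norm_num, combo_zero.symm⟩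

/-- the element is described by the label -/
def RepV (e : E) (L : ℕ) : Prop :=
  ∃ h : e ∈ N, ∀ p < 23, Nat.testBit (msk H ⟨e, h⟩) p = dotE (avec H x y s) (blk L p)

theorem repV_one : RepV H x y s 1 0 := by
  refine ⟨N.one_mem, fun p _ => ?_⟩
  have : (⟨1, N.one_mem⟩ : ↥N) = 1 := rfl
  rw [this, msk_one, blk_zero, dotE_zero, Nat.zero_testBit]

theorem repV_mul {a b : E} {L M : ℕ} (ha : RepV H x y s a L) (hb : RepV H x y s b M) :
    RepV H x y s (a * b) (Nat.xor L M) := by
  obtain ⟨h1, h1'⟩ := ha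
  obtain ⟨h2, h2'⟩ := hb
  refine ⟨N.mul_mem h1 h2, fun p hp => ?_⟩
  have : (⟨a * b, N.mul_mem h1 h2⟩ : ↥N) = ⟨a, h1⟩ * ⟨b, h2⟩ := rfl
  rw [this, msk_mul, Nat.testBit_xor, h1' p hp, h2' p hp]
  show _ = dotE _ (blk (L ^^^ M) p)
  rw [blk_xor, dotE_xor]

theorem repV_inv {a : E} {L : ℕ} (ha : RepV H x y s a L) : RepV H x y s a⁻¹ L := by
  obtain ⟨h1, h1'⟩ := ha
  have : a⁻¹ = a := by
    have := sq_eq_one' H a h1
    exact inv_eq_of_mul_eq_one_left this
  rw [this]
  exact ⟨h1, h1'⟩

variable {x y s}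

theorem repV_tw (Lf : Lifts N φ x y s) {a : E} {L : ℕ} (b : ℕ) (hb : b < 253)
    (ha : RepV H x y s a L) : RepV H x y s ((beta x y b)⁻¹ * a * beta x y b) (twb b L) := by
  obtain ⟨h1, h1'⟩ := ha
  have hm : (beta x y b)⁻¹ * a * beta x y b ∈ N := by
    have := hN.conj_mem a h1 (beta x y b)⁻¹
    rwa [inv_inv] at this
  refine ⟨hm, fun p hp => ?_⟩
  have hq : bpt b p < 23 := Nat.mod_lt _ (by norm_num)
  rw [msk_conj H (beta x y b) ⟨a, h1⟩ hm (show p < 24 by omega) (show bpt b p < 24 by omega)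
    (pi_beta (proj N φ) Lf.πx Lf.πy Lf.πs hb hp), h1' _ hq, blk_twb b L hp]

theorem isC_aget_apply {g : Equiv.Perm GolayPt} {c : ℕ} (h : IsC g c) {p : ℕ} (hp : p < 24) :
    g (pt p) = pt (aget c p) := h.apply hp

/-- the relator instances -/
theorem repV_inst (Lf : Lifts N φ x y s) (ω i : ℕ) (hok : iokA ω i = true) :
    RepV H x y s ((tau certA (gen6 x y s) ω)⁻¹ * ev (gen6 x y s) (iwT i) * tau certA (gen6 x y s) ω)
      (ilA ω i) := by
  unfold iokA at hok
  rw [Bool.and_eq_true] at hok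
  obtain ⟨hreach, hi⟩ := hok
  have hi' : i < 1408 := by simpa using hi
  set u := ev (gen6 x y s) ((sgnW (i / 64)).take (i % 64)) with hu
  set t := tau certA (gen6 x y s) ω with ht
  set z := ev (gen6 x y s) (sgnW (i / 64)) with hz
  have hel : t⁻¹ * ev (gen6 x y s) (iwT i) * t = (u * t)⁻¹ * z * (u * t) := by
    rw [ev_iwT_rot, ← hu, ← hz]; group
  rw [hel]
  have h128 : i / 64 / 2 = i / 128 := by rw [Nat.div_div_eq_div_mul]
  by_cases h6 : i / 128 < 6
  · -- exact relators
    have hz1 : z = 1 := by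
      rcases ev_sgnW x y s (i / 64) with h | h
      · rw [hz, h, h128, rel_exact Lf.hx Lf.hy Lf.hyx Lf.hs Lf.hsy _ h6]
      · rw [hz, h, h128, rel_exact Lf.hx Lf.hy Lf.hyx Lf.hs Lf.hsy _ h6, inv_one]
    have hil : ilA ω i = 0 := by
      unfold ilA
      rw [if_pos (show Nat.blt (Nat.div i 128) 6 = true from (Nat.blt_eq).mpr h6)]
    rw [hz1, hil]
    have : (u * t)⁻¹ * 1 * (u * t) = 1 := by group
    rw [this]
    exact repV_one H x y s
  · -- relators with unknown values
    have hr11 : i / 128 < 11 := by omega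
    obtain ⟨r, hr⟩ : ∃ r, i / 128 = 6 + r := ⟨i / 128 - 6, by omega⟩
    have hr5 : r < 5 := by omega
    have hmem : ev (gen6 x y s) (relW (6 + r)) ∈ N := Lf.rel_mem (by omega)
    have hzN : z ∈ N := by
      rcases ev_sgnW x y s (i / 64) with h | h
      · rw [hz, h, h128, hr]; exact hmem
      · rw [hz, h, h128, hr]; exact N.inv_mem hmem
    have hzm : msk H ⟨z, hzN⟩ = avec H x y s r := by
      have ea : avec H x y s r = msk H ⟨_, hmem⟩ := by
        unfold avec; rw [dif_pos hmem]
      rw [ea]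
      congr 1
      apply Subtype.ext
      show z = ev (gen6 x y s) (relW (6 + r))
      rcases ev_sgnW x y s (i / 64) with h | h
      · rw [hz, h, h128, hr]
      · rw [hz, h, h128, hr]
        exact inv_eq_of_mul_eq_one_left (sq_eq_one' H _ hmem)
    set c := pmul (wcode ((sgnW (i / 64)).take (i % 64))) (gwf 12 ω) with hc
    have hlt : ∀ l ∈ (sgnW (i / 64)).take (i % 64), l < 6 :=
      fun l hl => sgnW_lt6 _ l (List.mem_of_mem_take hl)
    have hC : IsC (proj N φ (u * t)) c := by
      rw [map_mul]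
      exact (isC_ev (proj N φ) Lf.πx Lf.πy Lf.πs _ hlt).mul
        (isC_tau (proj N φ) Lf.πx Lf.πy Lf.πs certA rfl rfl 12 ω hreach)
    have hil : ilA ω i = unitL r (fun p => aget c p) := by
      unfold ilA
      rw [if_neg (show ¬ Nat.blt (Nat.div i 128) 6 = true from fun hh => h6 ((Nat.blt_eq).mp hh)), force_eq]
      show unitL ((i / 128) - 6) (fun p => aget c p) = unitL r (fun p => aget c p)
      rw [hr, Nat.add_sub_cancel_left]
    have hm : (u * t)⁻¹ * z * (u * t) ∈ N := by
      have := hN.conj_mem z hzN (u * t)⁻¹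
      rwa [inv_inv] at this
    refine ⟨hm, fun p hp => ?_⟩
    have hq : aget c p < 23 := isC_aget_lt23 hC (proj_mem N φ _) hp
    rw [msk_conj H (u * t) ⟨z, hzN⟩ hm (show p < 24 by omega) (show aget c p < 24 by omega)
      (hC.apply (show p < 24 by omega)), hzm, hil, blk_unitL _ hr5 hp, Nat.mod_eq_of_lt hq,
      dotE_unit _ hr5 hq]

theorem certA_zero : certA.zero = 0 := by simp only [certA]

theorem certA_add (L M : ℕ) : certA.add L M = Nat.xor L M := by simp only [certA]

theorem certA_tw (b L : ℕ) : certA.tw b L = twb b L := by simp only [certA]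

theorem certA_lab (i : ℕ) : certA.lab i = labA i := by simp only [certA]

theorem certA_il (ω i : ℕ) : certA.il ω i = ilA ω i := by simp only [certA]

theorem certA_iok (ω i : ℕ) : certA.iok ω i = iokA ω i := by simp only [certA]

theorem certA_beq (L M : ℕ) : certA.beq L M = Nat.beq L M := by simp only [certA]

theorem certA_iw (i : ℕ) : certA.iw i = iwT i := by simp only [certA]

/-- the group side of the labelled complex -/
noncomputable def modelV (Lf : Lifts N φ x y s) : Model certA (gen6 x y s) where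
  gen_inv := gen6_inv x y s
  β := beta x y
  β_zero := beta_zero x y
  β_mul := fun a b _ _ => beta_mul Lf.hx Lf.hy Lf.hyx a b
  β_x := beta_one x y
  β_y := beta_23 x y
  Rep := RepV H x y s
  rep_one := by rw [certA_zero]; exact repV_one H x y s
  rep_mul := fun ha hb => by rw [certA_add]; exact repV_mul H x y s ha hb
  rep_inv := fun ha => repV_inv H x y s ha
  rep_tw := fun b hb ha => by rw [certA_tw]; exact repV_tw H Lf b hb ha
  rep_beq := fun {a L M} h ha => by
    rw [certA_beq] at h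
    have : M = L := Nat.eq_of_beq_eq_true h
    rw [this]; exact ha
  lab_zero := by rw [certA_lab, certA_zero]; exact chkA_lab0
  rep_inst := fun ω i hok => by
    rw [certA_iok] at hok
    rw [certA_il, certA_iw]
    exact repV_inst H Lf ω i hok

end

end Cfsg.Agent.Lib.Helper5.M23Coh.V
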