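import Cfsg.Agent.Lib.Helper5.M23Coh.Proj
import Cfsg.Agent.Lib.Helper5.M23Coh.ChkA

/-!
# An extension of `M23` by its code module: the labelled complex
-/

set_option autoImplicit false

namespace Cfsg.Agent.Lib.Helper5.M23Coh.V

open Cfsg Cfsg.Agent.Lib.Helper6.Golay Cfsg.Agent.H9.NatPerm Cfsg.Agent.Lib.Helper5.M23Coh

section
variable {E : Type*} [Group E] (N : Subgroup E) [hN : N.Normal] (φ : E ⧸ N ≃* ↥Spor.M23)
  (ψ : Additive ↥N →+ (GolayPt → ZMod 2))

/-- the hypotheses on the module structure -/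
structure Hyp : Prop where
  hinj : Function.Injective ψ
  hrange : ∀ w : GolayPt → ZMod 2, w ∈ Set.range ψ ↔ (w ∈ golayCode ∧ w none = 0)
  hψ : ∀ (g : E) (n : ↥N), ψ (Additive.ofMul ⟨g * n * g⁻¹, hN.conj_mem n n.2 g⟩)
    = ψ (Additive.ofMul n) ∘ ⇑(proj N φ g)⁻¹

variable {N φ ψ} (H : Hyp N φ ψ)

include H in
theorem exists_msk (n : ↥N) : ∃ a : ℕ, a < 2 ^ 23 ∧ inCode a = true ∧ ψ (Additive.ofMul n) = dec a := by
  obtain ⟨hc, h0⟩ := (H.hrange _).mp ⟨Additive.ofMul n, rfl⟩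
  obtain ⟨a, ha, hw⟩ := (mem_golayCode_iff' _).mp hc
  have ha24 : a < 2 ^ 24 := by
    simp only [inCode, Bool.and_eq_true, decide_eq_true_eq] at ha
    exact ha.1
  refine ⟨a, ?_, ha, hw⟩
  have hb : Nat.testBit a 23 = false := by
    rw [hw, dec_apply] at h0
    have : idx (none : GolayPt) = 23 := rfl
    rw [this] at h0
    by_contra hne
    rw [Bool.not_eq_false] at hne
    rw [hne] at h0
    simp at h0
  apply Nat.lt_pow_two_of_testBit
  intro i hi
  rcases Nat.lt_or_ge i 24 with h | h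
  · have : i = 23 := by omega
    rw [this]; exact hb
  · exact Nat.testBit_lt_two_pow (lt_of_lt_of_le ha24 (Nat.pow_le_pow_right (by norm_num) h))

/-- the word of an element of the normal subgroup, as a number -/
noncomputable def msk (n : ↥N) : ℕ := Classical.choose (exists_msk H n)

theorem msk_lt (n : ↥N) : msk H n < 2 ^ 23 := (Classical.choose_spec (exists_msk H n)).1

theorem msk_code (n : ↥N) : inCode (msk H n) = true := (Classical.choose_spec (exists_msk H n)).2.1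

theorem msk_spec (n : ↥N) : ψ (Additive.ofMul n) = dec (msk H n) :=
  (Classical.choose_spec (exists_msk H n)).2.2

theorem msk_lt24 (n : ↥N) : msk H n < 2 ^ 24 := lt_trans (msk_lt H n) (by norm_num)

theorem msk_mul (n n' : ↥N) : msk H (n * n') = msk H n ^^^ msk H n' := by
  have h : dec (msk H (n * n')) = dec (msk H n ^^^ msk H n') := by
    rw [dec_xor, ← msk_spec, ← msk_spec, ← msk_spec, ← map_add]; rfl
  exact (dec_eq_iff (msk_lt24 H _) (Nat.xor_lt_two_pow (msk_lt24 H _) (msk_lt24 H _))).mp h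

theorem msk_eq_zero {n : ↥N} (h : msk H n = 0) : n = 1 := by
  have h1 : ψ (Additive.ofMul n) = ψ 0 := by
    rw [msk_spec H, h, dec_zero, map_zero]
  have := H.hinj h1
  exact this

theorem msk_one : msk H (1 : ↥N) = 0 := by
  have h : dec (msk H (1 : ↥N)) = dec 0 := by
    rw [← msk_spec, dec_zero]
    exact map_zero ψ
  exact (dec_eq_iff (msk_lt24 H _) (by norm_num)).mp h

include H in
theorem sq_eq_one (n : ↥N) : n * n = 1 := by
  apply msk_eq_zero H
  rw [msk_mul, Nat.xor_self]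

include H in
theorem sq_eq_one' : ∀ n ∈ N, n * n = 1 := by
  intro n hn
  have := sq_eq_one H ⟨n, hn⟩
  exact congrArg Subtype.val this

theorem msk_testBit (n : ↥N) {p : ℕ} (hp : p < 24) :
    Nat.testBit (msk H n) p = decide (ψ (Additive.ofMul n) (pt p) = 1) := by
  rw [msk_spec H, dec_apply, idx_pt p hp]
  by_cases h : Nat.testBit (msk H n) p = true
  · rw [h]; simp
  · rw [Bool.not_eq_true] at h
    rw [h]; simp

/-- the word of a conjugate -/
theorem msk_conj (g : E) (n : ↥N) (hm : g⁻¹ * (n : E) * g ∈ N) {p q : ℕ} (hp : p < 24) (hq : q < 24)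
    (hpq : proj N φ g (pt p) = pt q) :
    Nat.testBit (msk H ⟨g⁻¹ * (n : E) * g, hm⟩) p = Nat.testBit (msk H n) q := by
  rw [msk_testBit H _ hp, msk_testBit H _ hq]
  have h := H.hψ g⁻¹ n
  have e : (⟨g⁻¹ * (n : E) * g⁻¹⁻¹, hN.conj_mem n n.2 g⁻¹⟩ : ↥N) = ⟨g⁻¹ * (n : E) * g, hm⟩ := by
    apply Subtype.ext
    show g⁻¹ * (n : E) * g⁻¹⁻¹ = g⁻¹ * (n : E) * g
    rw [inv_inv]
  rw [e] at h
  rw [h, map_inv, inv_inv, Function.comp_apply, hpq]

end

end Cfsg.Agent.Lib.Helper5.M23Coh.V
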