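import Cfsg.Agent.Lib.Helper5.M23Coh.WMain

/-!
# The extension of `M23` by its cocode module which does not split is unique
-/

set_option autoImplicit false

namespace Cfsg.Agent.Lib.Helper5.M23Coh.W

open Cfsg Cfsg.Agent.Lib.Helper6.Golay Cfsg.Agent.H9.NatPerm Cfsg.Agent.Lib.Helper5.M23Coh
open Cfsg.Agent.Lib.Helper5.M23Coh.V (Lifts)

section
variable {G K : Type*} [Group G] [Group K] (f : G →* K)

theorem map_gen6 (x y s : G) (l : ℕ) : f (gen6 x y s l) = gen6 (f x) (f y) (f s) l := by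
  unfold gen6
  split <;> simp

theorem map_ev (x y s : G) (w : List ℕ) :
    f (ev (gen6 x y s) w) = ev (gen6 (f x) (f y) (f s)) w := by
  induction w with
  | nil => rw [ev_nil, ev_nil, map_one]
  | cons l w ih => rw [ev_cons, ev_cons, map_mul, ih, map_gen6]

end

open Pointwise in
/-- a group generated modulo a normal subgroup `D` by elements which satisfy the relators modulo
`D` is mapped bijectively onto an extension of `M23`, if it is mapped onto it and `D` is not larger than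
the kernel of the extension -/
theorem bij_of_lifts {E : Type*} [Group E] [Finite E] {N : Subgroup E} [hN : N.Normal]
    {φ : E ⧸ N ≃* ↥Spor.M23} {G : Type*} [Group G] [Finite G] (D : Subgroup G) [D.Normal]
    {xh yh sh : G} (hx : xh ^ 23 = 1) (hy : yh ^ 11 = 1) (hyx : yh * xh * yh⁻¹ = xh ^ 2)
    (hrel : ∀ r < 11, ev (gen6 xh yh sh) (relW r) ∈ D)
    (π : G →* E) (πx : proj N φ (π xh) = gP 0) (πy : proj N φ (π yh) = gP 1)
    (πs : proj N φ (π sh) = gP 2)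
    (hD : ∀ n ∈ N, ∃ d ∈ D, π d = n) (hcard : Nat.card D ≤ Nat.card N) :
    Function.Bijective (fun t : ↥(Subgroup.closure {xh, yh, sh} ⊔ D) => π t) := by
  have hT : Nat.card ↥(Subgroup.closure {xh, yh, sh} ⊔ D) ≤ 40320 * 253 * Nat.card D :=
    card_closure_le D hx hy hyx hrel _ (fun g hg => by
      have : g ∈ ((Subgroup.closure {xh, yh, sh} : Subgroup G) : Set G) * (D : Set G) := by
        rw [← Subgroup.mul_normal]; exact hg
      obtain ⟨k, hk, m, hm, rfl⟩ := Set.mem_mul.mp this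
      exact ⟨k, hk, m, hm, rfl⟩)
  have hE : Nat.card E = Nat.card ↥Spor.M23 * Nat.card N := by
    rw [Subgroup.card_eq_card_quotient_mul_card_subgroup N, Nat.card_congr φ.toEquiv]
  have hsurj : Function.Surjective (fun t : ↥(Subgroup.closure {xh, yh, sh} ⊔ D) => π t) := by
    intro e
    have hp : proj N φ e ∈ (Subgroup.closure {π xh, π yh, π sh}).map (proj N φ) := by
      rw [V.map_closure_eq πx πy πs]; exact proj_mem N φ e
    obtain ⟨k, hk, hke⟩ := Subgroup.mem_map.mp hp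
    have hk' : k ∈ (Subgroup.closure {xh, yh, sh}).map π := by
      rw [MonoidHom.map_closure, Set.image_insert_eq, Set.image_insert_eq, Set.image_singleton]
      exact hk
    obtain ⟨kh, hkh, rfl⟩ := Subgroup.mem_map.mp hk'
    have hn : (π kh)⁻¹ * e ∈ N := by
      rw [← proj_eq_one_iff N φ, map_mul, map_inv, hke]; group
    obtain ⟨d, hd, hde⟩ := hD _ hn
    refine ⟨⟨kh * d, Subgroup.mul_mem_sup hkh hd⟩, ?_⟩
    show π (kh * d) = e
    rw [map_mul, hde]; group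
  apply hsurj.bijective_of_nat_card_le
  rw [hE, Cfsg.Agent.H9.FusGrp.card_SporM23]
  calc Nat.card ↥(Subgroup.closure {xh, yh, sh} ⊔ D) ≤ 40320 * 253 * Nat.card D := hT
    _ ≤ 40320 * 253 * Nat.card N := Nat.mul_le_mul_left _ hcard
    _ = 10200960 * Nat.card N := by norm_num

section
variable {E : Type*} [Group E] {N : Subgroup E} [hN : N.Normal] (φ : E ⧸ N ≃* ↥Spor.M23)
  (θ : (GolayPt → ZMod 2) →+ Additive ↥N)
  {E' : Type*} [Group E'] {N' : Subgroup E'} [hN' : N'.Normal] (φ' : E' ⧸ N' ≃* ↥Spor.M23)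
  (θ' : (GolayPt → ZMod 2) →+ Additive ↥N')

/-- the pairs of elements with the same image in `M23` -/
def pull : Subgroup (E × E') where
  carrier := {g | proj N φ g.1 = proj N' φ' g.2}
  mul_mem' := by
    intro a b ha hb
    have ha' : proj N φ a.1 = proj N' φ' a.2 := ha
    have hb' : proj N φ b.1 = proj N' φ' b.2 := hb
    show proj N φ (a * b).1 = proj N' φ' (a * b).2
    rw [Prod.fst_mul, Prod.snd_mul, map_mul, map_mul, ha', hb']
  one_mem' := by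
    show proj N φ (1 : E × E').1 = proj N' φ' (1 : E × E').2
    rw [Prod.fst_one, Prod.snd_one, map_one, map_one]
  inv_mem' := by
    intro a ha
    have ha' : proj N φ a.1 = proj N' φ' a.2 := ha
    show proj N φ (a⁻¹).1 = proj N' φ' (a⁻¹).2
    rw [Prod.fst_inv, Prod.snd_inv, map_inv, map_inv, ha']

theorem mem_pull (g : E × E') : g ∈ pull φ φ' ↔ proj N φ g.1 = proj N' φ' g.2 := Iff.rfl

/-- the first projection -/
def p1 : ↥(pull φ φ') →* E := (MonoidHom.fst E E').comp (pull φ φ').subtype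

/-- the second projection -/
def p2 : ↥(pull φ φ') →* E' := (MonoidHom.snd E E').comp (pull φ φ').subtype

theorem pull_ext {g h : ↥(pull φ φ')} (h1 : p1 φ φ' g = p1 φ φ' h) (h2 : p2 φ φ' g = p2 φ φ' h) :
    g = h :=
  Subtype.ext (Prod.ext h1 h2)

/-- the diagonal copy of the module -/
def diag : Subgroup ↥(pull φ φ') where
  carrier := {g | ∃ a : ℕ, p1 φ φ' g = tw θ a ∧ p2 φ φ' g = tw θ' a}
  mul_mem' := by
    rintro g h ⟨a, ha1, ha2⟩ ⟨b, hb1, hb2⟩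
    exact ⟨a ^^^ b, by rw [map_mul, ha1, hb1, tw_xor], by rw [map_mul, ha2, hb2, tw_xor]⟩
  one_mem' := ⟨0, by rw [map_one, tw_zero], by rw [map_one, tw_zero]⟩
  inv_mem' := by
    rintro g ⟨a, ha1, ha2⟩
    exact ⟨a, by rw [map_inv, ha1, tw_inv], by rw [map_inv, ha2, tw_inv]⟩

theorem mem_diag (g : ↥(pull φ φ')) :
    g ∈ diag φ θ φ' θ' ↔ ∃ a : ℕ, p1 φ φ' g = tw θ a ∧ p2 φ φ' g = tw θ' a := Iff.rfl

variable {φ θ φ' θ'} (H : HypW N φ θ) (H' : HypW N' φ' θ')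

include H H' in
theorem diag_normal : (diag φ θ φ' θ').Normal := by
  constructor
  rintro d ⟨a, ha1, ha2⟩ g
  obtain ⟨a', ha'⟩ : ∃ a' : ℕ, a' = Nat.ofBits (fun p : Fin 24 =>
    Nat.testBit a (idx (proj N φ (p1 φ φ' g)⁻¹ (pt p)))) := ⟨_, rfl⟩
  have hbits : ∀ p < 24, Nat.testBit a' p =
      Nat.testBit a (idx (proj N φ (p1 φ φ' g)⁻¹ (pt p))) := by
    intro p hp
    rw [ha']
    exact Nat.testBit_ofBits_lt _ p hp
  have hg : proj N φ (p1 φ φ' g) = proj N' φ' (p2 φ φ' g) := g.2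
  have hbits' : ∀ p < 24, Nat.testBit a' p =
      Nat.testBit a (idx (proj N' φ' (p2 φ φ' g)⁻¹ (pt p))) := by
    intro p hp
    rw [hbits p hp, map_inv, map_inv, hg]
  rw [mem_diag]
  refine ⟨a', ?_, ?_⟩
  · have := tw_conj H (p1 φ φ' g)⁻¹ hbits
    rw [inv_inv] at this
    rw [map_mul, map_mul, map_inv, ha1]
    exact this
  · have := tw_conj H' (p2 φ φ' g)⁻¹ hbits'
    rw [inv_inv] at this
    rw [map_mul, map_mul, map_inv, ha2]
    exact this

include H H' in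
theorem card_diag_le [Finite E] : Nat.card (diag φ θ φ' θ') ≤ Nat.card N := by
  have key : ∀ d : ↥(diag φ θ φ' θ'), p1 φ φ' (d : ↥(pull φ φ')) ∈ N := by
    rintro ⟨d, a, ha1, ha2⟩
    show p1 φ φ' d ∈ N
    rw [ha1]; exact tw_mem θ a
  let F : ↥(diag φ θ φ' θ') → ↥N := fun d => ⟨p1 φ φ' (d : ↥(pull φ φ')), key d⟩
  have inj : Function.Injective F := by
    rintro ⟨d, a, ha1, ha2⟩ ⟨e, b, hb1, hb2⟩ h
    have h1 : p1 φ φ' d = p1 φ φ' e := congrArg Subtype.val h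
    apply Subtype.ext
    apply pull_ext φ φ' h1
    show p2 φ φ' d = p2 φ φ' e
    rw [ha2, hb2]
    apply tw_eq_of_xor
    rw [tw_eq_one_iff' H', ← tw_eq_one_iff' H, tw_xor, ← ha1, ← hb1, h1, hb1]
    exact tw_sq θ b
  exact Nat.card_le_card_of_injective F inj

include H H' in
theorem card_diag_le' [Finite E'] : Nat.card (diag φ θ φ' θ') ≤ Nat.card N' := by
  have key : ∀ d : ↥(diag φ θ φ' θ'), p2 φ φ' (d : ↥(pull φ φ')) ∈ N' := by
    rintro ⟨d, a, ha1, ha2⟩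
    show p2 φ φ' d ∈ N'
    rw [ha2]; exact tw_mem θ' a
  let F : ↥(diag φ θ φ' θ') → ↥N' := fun d => ⟨p2 φ φ' (d : ↥(pull φ φ')), key d⟩
  have inj : Function.Injective F := by
    rintro ⟨d, a, ha1, ha2⟩ ⟨e, b, hb1, hb2⟩ h
    have h2 : p2 φ φ' d = p2 φ φ' e := congrArg Subtype.val h
    apply Subtype.ext
    refine pull_ext φ φ' ?_ h2
    show p1 φ φ' d = p1 φ φ' e
    rw [ha1, hb1]
    apply tw_eq_of_xor
    rw [tw_eq_one_iff' H, ← tw_eq_one_iff' H', tw_xor, ← ha2, ← hb2, h2, hb2]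
    exact tw_sq θ' b
  exact Nat.card_le_card_of_injective F inj

end

/-- **two extensions of `M23` by its cocode module which do not split are isomorphic** -/
theorem iso_of_nonsplit {E : Type*} [Group E] [Finite E] (N : Subgroup E) [hN : N.Normal]
    (φ : E ⧸ N ≃* ↥Spor.M23) (θ : (GolayPt → ZMod 2) →+ Additive ↥N) (H : HypW N φ θ)
    (hns : ∀ K : Subgroup E, K ⊓ N = ⊥ → K ⊔ N ≠ ⊤)
    {E' : Type*} [Group E'] [Finite E'] (N' : Subgroup E') [hN' : N'.Normal]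
    (φ' : E' ⧸ N' ≃* ↥Spor.M23) (θ' : (GolayPt → ZMod 2) →+ Additive ↥N') (H' : HypW N' φ' θ')
    (hns' : ∀ K : Subgroup E', K ⊓ N' = ⊥ → K ⊔ N' ≠ ⊤) :
    Nonempty (E ≃* E') := by
  obtain ⟨x, y, s, Lf, hu⟩ := normal_form H hns
  obtain ⟨x', y', s', Lf', hu'⟩ := normal_form H' hns'
  have hxm : (x, x') ∈ pull φ φ' := Lf.πx.trans Lf'.πx.symm
  have hym : (y, y') ∈ pull φ φ' := Lf.πy.trans Lf'.πy.symm
  have hsm : (s, s') ∈ pull φ φ' := Lf.πs.trans Lf'.πs.symm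
  obtain ⟨xh, hxh⟩ : ∃ xh : ↥(pull φ φ'), xh = ⟨(x, x'), hxm⟩ := ⟨_, rfl⟩
  obtain ⟨yh, hyh⟩ : ∃ yh : ↥(pull φ φ'), yh = ⟨(y, y'), hym⟩ := ⟨_, rfl⟩
  obtain ⟨sh, hsh⟩ : ∃ sh : ↥(pull φ φ'), sh = ⟨(s, s'), hsm⟩ := ⟨_, rfl⟩
  have x1 : p1 φ φ' xh = x := by rw [hxh]; rfl
  have x2 : p2 φ φ' xh = x' := by rw [hxh]; rfl
  have y1 : p1 φ φ' yh = y := by rw [hyh]; rfl
  have y2 : p2 φ φ' yh = y' := by rw [hyh]; rfl
  have s1 : p1 φ φ' sh = s := by rw [hsh]; rfl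
  have s2 : p2 φ φ' sh = s' := by rw [hsh]; rfl
  haveI := diag_normal H H'
  have hx : xh ^ 23 = 1 := pull_ext φ φ' (by rw [map_pow, map_one, x1]; exact Lf.hx)
    (by rw [map_pow, map_one, x2]; exact Lf'.hx)
  have hy : yh ^ 11 = 1 := pull_ext φ φ' (by rw [map_pow, map_one, y1]; exact Lf.hy)
    (by rw [map_pow, map_one, y2]; exact Lf'.hy)
  have hyx : yh * xh * yh⁻¹ = xh ^ 2 := pull_ext φ φ'
    (by rw [map_mul, map_mul, map_inv, map_pow, x1, y1]; exact Lf.hyx)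
    (by rw [map_mul, map_mul, map_inv, map_pow, x2, y2]; exact Lf'.hyx)
  have hrel : ∀ r < 11, ev (gen6 xh yh sh) (relW r) ∈ diag φ θ φ' θ' := by
    intro r hr
    rw [mem_diag]
    by_cases h6 : r < 6
    · refine ⟨0, ?_, ?_⟩
      · rw [map_ev, tw_zero, x1, y1, s1]
        exact rel_exact Lf.hx Lf.hy Lf.hyx Lf.hs Lf.hsy r h6
      · rw [map_ev, tw_zero, x2, y2, s2]
        exact rel_exact Lf'.hx Lf'.hy Lf'.hyx Lf'.hs Lf'.hsy r h6
    · obtain ⟨k, rfl⟩ : ∃ k, r = 6 + k := ⟨r - 6, by omega⟩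
      refine ⟨usW.getD k 0, ?_, ?_⟩
      · rw [map_ev, x1, y1, s1]; exact hu k (by omega)
      · rw [map_ev, x2, y2, s2]; exact hu' k (by omega)
  have hmem : ∀ a : ℕ, ((tw θ a, tw θ' a) : E × E') ∈ pull φ φ' := fun a =>
    ((proj_eq_one_iff N φ _).mpr (tw_mem θ a)).trans
      ((proj_eq_one_iff N' φ' _).mpr (tw_mem θ' a)).symm
  have hD1 : ∀ n ∈ N, ∃ d ∈ diag φ θ φ' θ', p1 φ φ' d = n := by
    intro n hn
    obtain ⟨a, _, rfl⟩ := exists_tw0 H hn
    exact ⟨⟨(tw θ a, tw θ' a), hmem a⟩, ⟨a, rfl, rfl⟩, rfl⟩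
  have hD2 : ∀ n ∈ N', ∃ d ∈ diag φ θ φ' θ', p2 φ φ' d = n := by
    intro n hn
    obtain ⟨a, _, rfl⟩ := exists_tw0 H' hn
    exact ⟨⟨(tw θ a, tw θ' a), hmem a⟩, ⟨a, rfl, rfl⟩, rfl⟩
  have B1 := bij_of_lifts (N := N) (φ := φ) (diag φ θ φ' θ') hx hy hyx hrel (p1 φ φ')
    (by rw [x1]; exact Lf.πx) (by rw [y1]; exact Lf.πy) (by rw [s1]; exact Lf.πs) hD1
    (card_diag_le H H')
  have B2 := bij_of_lifts (N := N') (φ := φ') (diag φ θ φ' θ') hx hy hyx hrel (p2 φ φ')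
    (by rw [x2]; exact Lf'.πx) (by rw [y2]; exact Lf'.πy) (by rw [s2]; exact Lf'.πs) hD2
    (card_diag_le' H H')
  let e1 := MulEquiv.ofBijective
    ((p1 φ φ').comp (Subgroup.closure {xh, yh, sh} ⊔ diag φ θ φ' θ').subtype) B1
  let e2 := MulEquiv.ofBijective
    ((p2 φ φ').comp (Subgroup.closure {xh, yh, sh} ⊔ diag φ θ φ' θ').subtype) B2
  exact ⟨e1.symm.trans e2⟩

end Cfsg.Agent.Lib.Helper5.M23Coh.W
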