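import Cfsg.Agent.Lib.Helper5.M23Coh.WModel
import Cfsg.Agent.Lib.Helper5.M23Coh.VFinal
import Cfsg.Agent.Lib.Helper5.M23Coh.ChkW2
import Cfsg.Agent.Lib.Helper5.M23Coh.ChkW3

/-!
# An extension of `M23` by its cocode module which does not split: the values of the relators
-/

set_option autoImplicit false

namespace Cfsg.Agent.Lib.Helper5.M23Coh.W

open Cfsg Cfsg.Agent.Lib.Helper6.Golay Cfsg.Agent.H9.NatPerm Cfsg.Agent.Lib.Helper5.M23Coh
open Cfsg.Agent.Lib.Helper5.M23Coh.V (Lifts)

theorem allB_of_forall {f : ℕ → Bool} : ∀ {n : ℕ}, (∀ m < n, f m = true) → allB f n = true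
  | 0, _ => rfl
  | n + 1, h => by
    rw [allB, Bool.and_eq_true]
    exact ⟨h n (Nat.lt_succ_self n), allB_of_forall (fun m hm => h m (Nat.lt_succ_of_lt hm))⟩

/-- the words of the code are orthogonal to the chosen words -/
theorem par_combo {m : ℕ} (hm : m < 4096) {j : ℕ} (hj : j < 11) :
    par23 (Nat.land (hW.getD j 0) (combo m)) = false := by
  have h : allB (fun j => !(par23 (Nat.land (hW.getD j 0) (combo m)))) 11 = true := by
    by_cases h1 : m < 1024
    · exact allR_spec chkW_code0 m (by omega) (by omega)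
    by_cases h2 : m < 2048
    · exact allR_spec chkW_code1 m (by omega) (by omega)
    by_cases h3 : m < 3072
    · exact allR_spec chkW_code2 m (by omega) (by omega)
    · exact allR_spec chkW_code3 m (by omega) (by omega)
  have := allB_spec h j hj
  exact (Bool.not_eq_true' _).mp this

theorem par_punct {v : ℕ} (hv : inCode v = true ∨ inCode (v ^^^ 2 ^ 23) = true) {j : ℕ}
    (hj : j < 11) : par23 (Nat.land (hW.getD j 0) v) = false := by
  rcases hv with h | h
  · obtain ⟨m, hm, rfl⟩ := (inCode_iff v).mp h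
    exact par_combo hm hj
  · obtain ⟨m, hm, e⟩ := (inCode_iff _).mp h
    have h1 := par_combo hm hj
    rw [← e] at h1
    have hinf : Nat.land (hW.getD j 0) 8388608 = 0 :=
      Nat.eq_of_beq_eq_true (allB_spec chkW_inf j hj)
    have e23 : (2 : ℕ) ^ 23 = 8388608 := by norm_num
    have e2 : Nat.land (hW.getD j 0) (v ^^^ 2 ^ 23) = Nat.land (hW.getD j 0) v := by
      show (hW.getD j 0) &&& (v ^^^ 2 ^ 23) = (hW.getD j 0) &&& v
      rw [Nat.and_xor_distrib_left, e23]
      have : (hW.getD j 0) &&& 8388608 = 0 := hinf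
      rw [this, Nat.xor_zero]
    rw [e2] at h1
    exact h1

/-- words orthogonal to the chosen words belong to the code, up to the extra point -/
theorem decode {v : ℕ} (hv : v < 2 ^ 24)
    (h : ∀ j < 11, par23 (Nat.land (hW.getD j 0) v) = false) :
    inCode v = true ∨ inCode (v ^^^ 2 ^ 23) = true := by
  have hm : v % 4096 < 4096 := Nat.mod_lt _ (by norm_num)
  have hc24 : combo (v % 4096) < 2 ^ 24 := combo_lt _ hm
  have hcm : combo (v % 4096) % 4096 = v % 4096 := combo_mod _ hm
  obtain ⟨c, hc⟩ : ∃ c, c = combo (v % 4096) := ⟨_, rfl⟩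
  rw [← hc] at hc24 hcm
  have hy24 : v ^^^ c < 2 ^ 24 := Nat.xor_lt_two_pow hv hc24
  have hy0 : (v ^^^ c) % 4096 = 0 := by
    have e12 : (4096 : ℕ) = 2 ^ 12 := by norm_num
    rw [e12, Nat.xor_mod_two_pow, ← e12, hcm, Nat.xor_self]
  obtain ⟨t, ht⟩ : ∃ t, t = (v ^^^ c) / 4096 := ⟨_, rfl⟩
  have hyt : v ^^^ c = Nat.mul 4096 t := by
    show v ^^^ c = 4096 * t
    have := Nat.div_add_mod (v ^^^ c) 4096
    omega
  have ht4096 : t < 4096 := by
    have : v ^^^ c < 4096 * 4096 := by norm_num at hy24 ⊢; exact hy24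
    omega
  have hpar : ∀ j < 11, par23 (Nat.land (hW.getD j 0) (Nat.mul 4096 t)) = false := by
    intro j hj
    rw [← hyt]
    show par23 ((hW.getD j 0) &&& (v ^^^ c)) = false
    rw [Nat.and_xor_distrib_left, par23_xor]
    have h1 : par23 ((hW.getD j 0) &&& v) = false := h j hj
    have h2 : par23 ((hW.getD j 0) &&& c) = false := by rw [hc]; exact par_combo hm hj
    rw [h1, h2]; rfl
  have hchk : (Nat.beq t 0 || Nat.beq t 2048 ||
      !(allB (fun j => !(par23 (Nat.land (hW.getD j 0) (Nat.mul 4096 t)))) 11)) = true := by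
    by_cases h1 : t < 1024
    · exact allR_spec chkW_dec0 t (by omega) (by omega)
    by_cases h2 : t < 2048
    · exact allR_spec chkW_dec1 t (by omega) (by omega)
    by_cases h3 : t < 3072
    · exact allR_spec chkW_dec2 t (by omega) (by omega)
    · exact allR_spec chkW_dec3 t (by omega) (by omega)
  have hall : allB (fun j => !(par23 (Nat.land (hW.getD j 0) (Nat.mul 4096 t)))) 11 = true :=
    allB_of_forall (fun j hj => by
      show (!(par23 (Nat.land (hW.getD j 0) (Nat.mul 4096 t)))) = true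
      rw [hpar j hj]; rfl)
  rw [hall, Bool.not_true, Bool.or_false, Bool.or_eq_true] at hchk
  have hin : inCode c = true := (inCode_iff c).mpr ⟨v % 4096, hm, hc⟩
  rcases hchk with h0 | h0
  · have t0 : t = 0 := Nat.eq_of_beq_eq_true h0
    rw [t0] at hyt
    have : v ^^^ c = 0 := hyt
    rw [Nat.xor_eq_zero_iff] at this
    left
    rw [this]; exact hin
  · have t0 : t = 2048 := Nat.eq_of_beq_eq_true h0
    rw [t0] at hyt
    have e : v ^^^ c = 2 ^ 23 := by rw [hyt]; norm_num
    right
    have : v ^^^ 2 ^ 23 = c := by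
      rw [← e, ← Nat.xor_assoc, Nat.xor_self, Nat.zero_xor]
    rw [this]; exact hin

theorem dot_shift (a : ℕ → ℕ) {r j : ℕ} (hr : r < 5) (hj : j < 11) :
    dotE a (Nat.shiftLeft (hW.getD j 0) (Nat.mul 23 r)) = par23 (Nat.land (hW.getD j 0) (a r)) := by
  have hsub : ∀ r' < 5, sub23 r' (Nat.shiftLeft (hW.getD j 0) (Nat.mul 23 r)) =
      if Nat.beq r' r then hW.getD j 0 else 0 := by
    intro r' hr'
    exact Nat.eq_of_beq_eq_true (allB_spec (allB_spec (allB_spec chkW_sub r hr) j hj) r' hr')
  have hz : ∀ z, par23 (Nat.land 0 z) = false := by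
    intro z
    show par23 (0 &&& z) = false
    rw [Nat.zero_and]; exact par23_zero
  unfold dotE
  rw [hsub 0 (by norm_num), hsub 1 (by norm_num), hsub 2 (by norm_num), hsub 3 (by norm_num),
    hsub 4 (by norm_num)]
  generalize hW.getD j 0 = h
  interval_cases r <;> simp [par23_zero]

section
variable {E : Type*} [Group E] {N : Subgroup E} [hN : N.Normal] {φ : E ⧸ N ≃* ↥Spor.M23}
  {θ : (GolayPt → ZMod 2) →+ Additive ↥N} (H : HypW N φ θ) {x y s : E}

theorem known_W (Lf : Lifts N φ x y s) : (modelW H Lf).Known (certA.nF + 1) :=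
  (modelW H Lf).known_all V.certA_init V.certA_edge V.certA_face _ le_rfl

/-- the parity checks of the labels of the closed relator instances vanish at the unknown words -/
theorem kmaskW_zero (Lf : Lifts N φ x y s) : ∀ m ∈ kmasksW, dotE (avec H x y s) m = false := by
  intro m hm
  unfold kmasksW at hm
  obtain ⟨L, hL, hm⟩ := List.mem_flatMap.mp hm
  obtain ⟨h, hh, rfl⟩ := List.mem_map.mp hm
  obtain ⟨k, hk, rfl⟩ := List.getElem_of_mem hL
  obtain ⟨j, hj, rfl⟩ := List.getElem_of_mem hh
  have hget : consLs.getD k 0 = consLs[k]'hk := List.getD_eq_getElem _ _ hk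
  have hgetj : hW.getD j 0 = hW[j]'hj := List.getD_eq_getElem _ _ hj
  have hk7 : k < 7 := by simpa [consLs] using hk
  have hj11 : j < 11 := by simpa [hW] using hj
  have hc := allB_spec chkA_cons k hk7
  rw [hget] at hc
  rcases hcons : consL certA (consV.getD k 0) (consI.getD k 0) with _ | L'
  · rw [hcons] at hc; exact absurd hc (by simp [optIs])
  · rw [hcons] at hc
    have e : L' = consLs[k]'hk := Nat.eq_of_beq_eq_true hc
    have hR := (modelW H Lf).cons_sound (known_W H Lf) hcons
    have hR' : (1 : E) = tw θ (vecN (avec H x y s) L') := hR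
    rw [e] at hR'
    have h1 := (tw_eq_one_iff H (lt_trans (vecN_lt _ _) (by norm_num))).mp hR'.symm
    rw [dotE_kw, ← hgetj]
    exact par_punct h1 hj11

/-- the parity checks of the unknown words are multiples of one of them -/
theorem synd (Lf : Lifts N φ x y s) {r j : ℕ} (hr : r < 5) (hj : j < 11) :
    par23 (Nat.land (hW.getD j 0) (avec H x y s r)) =
      (cbitsW.getD (11 * r + j) false && dotE (avec H x y s) emaskW) := by
  have hi : 11 * r + j < 55 := by omega
  have hlin := Nat.eq_of_beq_eq_true (allB_spec chkW_lin (11 * r + j) hi)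
  have hz := V.xorIdx_zero (kmaskW_zero H Lf) (selW.getD (11 * r + j) [])
  rw [hlin] at hz
  have e1 : Nat.mod (11 * r + j) 11 = j := by show (11 * r + j) % 11 = j; omega
  have e2 : Nat.div (11 * r + j) 11 = r := by show (11 * r + j) / 11 = r; omega
  rw [e1, e2] at hz
  have hz' : dotE (avec H x y s) ((Nat.shiftLeft (hW.getD j 0) (Nat.mul 23 r)) ^^^
      (if cbitsW.getD (11 * r + j) false then emaskW else 0)) = false := hz
  rw [dotE_xor, dot_shift _ hr hj] at hz'
  cases hc : cbitsW.getD (11 * r + j) false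
  · rw [hc] at hz'
    rw [if_neg (by simp), dotE_zero, Bool.xor_false] at hz'
    rw [hz', Bool.false_and]
  · rw [hc] at hz'
    rw [if_pos rfl] at hz'
    rw [Bool.true_and]
    revert hz'
    cases par23 (Nat.land (hW.getD j 0) (avec H x y s r)) <;>
      cases dotE (avec H x y s) emaskW <;> simp

theorem usW_lt : ∀ r < 5, usW.getD r 0 < 2 ^ 24 := by decide

/-- in the case where the free form takes the value one the relators take the chosen values -/
theorem tw_avec_of_eps (Lf : Lifts N φ x y s) (hε : dotE (avec H x y s) emaskW = true) {r : ℕ}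
    (hr : r < 5) : tw θ (avec H x y s r) = tw θ (usW.getD r 0) := by
  apply tw_eq_of_xor
  have hlt : avec H x y s r ^^^ usW.getD r 0 < 2 ^ 24 :=
    Nat.xor_lt_two_pow (lt_trans (avec_lt H x y s r) (by norm_num)) (usW_lt r hr)
  rw [tw_eq_one_iff H hlt]
  apply decode hlt
  intro j hj
  show par23 ((hW.getD j 0) &&& (avec H x y s r ^^^ usW.getD r 0)) = false
  rw [Nat.and_xor_distrib_left, par23_xor]
  have h1 : par23 ((hW.getD j 0) &&& avec H x y s r) =
      (cbitsW.getD (11 * r + j) false && dotE (avec H x y s) emaskW) := synd H Lf hr hj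
  have h2 : (!(xor (par23 (Nat.land (hW.getD j 0) (usW.getD r 0)))
      (cbitsW.getD (Nat.add (Nat.mul 11 r) j) false))) = true :=
    allB_spec (allB_spec chkW_u r hr) j hj
  have h2' : par23 ((hW.getD j 0) &&& usW.getD r 0) = cbitsW.getD (11 * r + j) false := by
    revert h2
    show (!(xor (par23 ((hW.getD j 0) &&& usW.getD r 0)) (cbitsW.getD (11 * r + j) false))) = true → _
    cases par23 ((hW.getD j 0) &&& usW.getD r 0) <;> cases cbitsW.getD (11 * r + j) false <;> simp
  rw [h1, h2', hε, Bool.and_true]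
  cases cbitsW.getD (11 * r + j) false <;> rfl

/-- in the other case the relators take the value one -/
theorem tw_avec_of_not_eps (Lf : Lifts N φ x y s) (hε : dotE (avec H x y s) emaskW = false) {r : ℕ}
    (hr : r < 5) : tw θ (avec H x y s r) = 1 := by
  have hlt : avec H x y s r < 2 ^ 24 := lt_trans (avec_lt H x y s r) (by norm_num)
  rw [tw_eq_one_iff H hlt]
  apply decode hlt
  intro j hj
  rw [synd H Lf hr hj, hε, Bool.and_false]

end

/-- **an extension which does not split is generated modulo the normal subgroup by lifts of the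
generators at which the relators take the chosen values** -/
theorem normal_form {E : Type*} [Group E] [Finite E] {N : Subgroup E} [hN : N.Normal]
    {φ : E ⧸ N ≃* ↥Spor.M23} {θ : (GolayPt → ZMod 2) →+ Additive ↥N} (H : HypW N φ θ)
    (hns : ∀ K : Subgroup E, K ⊓ N = ⊥ → K ⊔ N ≠ ⊤) :
    ∃ x y s : E, Lifts N φ x y s ∧
      ∀ r < 5, ev (gen6 x y s) (relW (6 + r)) = tw θ (usW.getD r 0) := by
  obtain ⟨x, y, s, πx, πy, πs, hx, hy, hyx, hs, hsy⟩ := exists_lifts N (sq_eq_one' H) (proj N φ)
    (proj_ker N φ) (proj_surj N φ (gP_spec (show 0 < 6 by norm_num)).1)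
    (proj_surj N φ (gP_spec (show 1 < 6 by norm_num)).1)
    (proj_surj N φ (gP_spec (show 2 < 6 by norm_num)).1) gP_x23 gP_y11 gP_yx gP_s5 gP_sy
  have Lf : Lifts N φ x y s := ⟨πx, πy, πs, hx, hy, hyx, hs, hsy⟩
  refine ⟨x, y, s, Lf, ?_⟩
  by_cases hε : dotE (avec H x y s) emaskW = true
  · intro r hr
    rw [← avec_spec H x y s (Lf.rel_mem (by omega))]
    exact tw_avec_of_eps H Lf hε hr
  · exfalso
    rw [Bool.not_eq_true] at hε
    have hrel : ∀ r < 11, ev (gen6 x y s) (relW r) = 1 := by
      intro r hr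
      by_cases h6 : r < 6
      · exact rel_exact Lf.hx Lf.hy Lf.hyx Lf.hs Lf.hsy r h6
      · obtain ⟨k, rfl⟩ : ∃ k, r = 6 + k := ⟨r - 6, by omega⟩
        rw [← avec_spec H x y s (Lf.rel_mem hr)]
        exact tw_avec_of_not_eps H Lf hε (by omega)
    obtain ⟨K, h1, h2⟩ := V.complement_of_rel Lf hrel
    exact hns K h1 h2

end Cfsg.Agent.Lib.Helper5.M23Coh.W
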