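import Cfsg.Agent.Lib.Helper5.M23Coh.WSetup

/-!
# An extension of `M23` by its cocode module: the group side of the labelled complex
-/

set_option autoImplicit false

namespace Cfsg.Agent.Lib.Helper5.M23Coh.W

open Cfsg Cfsg.Agent.Lib.Helper6.Golay Cfsg.Agent.H9.NatPerm Cfsg.Agent.Lib.Helper5.M23Coh
open Cfsg.Agent.Lib.Helper5.M23Coh.V (Lifts)

section
variable {E : Type*} [Group E] {N : Subgroup E} [hN : N.Normal] {φ : E ⧸ N ≃* ↥Spor.M23}
  {θ : (GolayPt → ZMod 2) →+ Additive ↥N} (H : HypW N φ θ) (x y s : E)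

open Classical in
/-- the five unknown words: words which give the values of the relators number `6` to `10` -/
noncomputable def avec (r : ℕ) : ℕ :=
  if h : ev (gen6 x y s) (relW (6 + r)) ∈ N then Classical.choose (exists_tw H h) else 0

theorem avec_lt (r : ℕ) : avec H x y s r < 2 ^ 23 := by
  unfold avec
  split
  · exact (Classical.choose_spec (exists_tw H ‹_›)).1
  · norm_num

theorem avec_spec {r : ℕ} (h : ev (gen6 x y s) (relW (6 + r)) ∈ N) :
    tw θ (avec H x y s r) = ev (gen6 x y s) (relW (6 + r)) := by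
  unfold avec
  rw [dif_pos h]
  exact (Classical.choose_spec (exists_tw H h)).2

variable (θ) in
/-- the element is described by the label -/
def RepW (a : ℕ → ℕ) (e : E) (L : ℕ) : Prop := e = tw θ (vecN a L)

theorem repW_one (a : ℕ → ℕ) : RepW θ a 1 0 := by
  unfold RepW
  rw [vecN_zero, tw_zero]

theorem repW_mul {a : ℕ → ℕ} {e f : E} {L M : ℕ} (he : RepW θ a e L) (hf : RepW θ a f M) :
    RepW θ a (e * f) (Nat.xor L M) := by
  unfold RepW at *
  rw [he, hf, ← tw_xor, ← vecN_xor]
  rfl

theorem repW_inv {a : ℕ → ℕ} {e : E} {L : ℕ} (he : RepW θ a e L) : RepW θ a e⁻¹ L := by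
  unfold RepW at *
  rw [he, tw_inv]

variable {x y s}

include H in
theorem repW_tw (Lf : Lifts N φ x y s) {a : ℕ → ℕ} {e : E} {L : ℕ} (b : ℕ) (hb : b < 253)
    (he : RepW θ a e L) : RepW θ a ((beta x y b)⁻¹ * e * beta x y b) (twb b L) := by
  unfold RepW at *
  rw [he]
  apply tw_conj H
  intro p hp
  by_cases h23 : p < 23
  · have hq : bpt b p < 23 := Nat.mod_lt _ (by norm_num)
    rw [pi_beta (proj N φ) Lf.πx Lf.πy Lf.πs hb h23, idx_pt _ (by omega), vecN_testBit _ _ h23,
      vecN_testBit _ _ hq, blk_twb b L h23]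
  · have : p = 23 := by omega
    subst this
    rw [fix_none (proj_mem N φ _), idx_pt 23 (by norm_num), vecN_testBit_ge _ _ le_rfl,
      vecN_testBit_ge _ _ le_rfl]

/-- the relator instances -/
theorem repW_inst (Lf : Lifts N φ x y s) (ω i : ℕ) (hok : iokA ω i = true) :
    RepW θ (avec H x y s)
      ((tau certA (gen6 x y s) ω)⁻¹ * ev (gen6 x y s) (iwT i) * tau certA (gen6 x y s) ω)
      (ilA ω i) := by
  unfold iokA at hok
  rw [Bool.and_eq_true] at hok
  obtain ⟨hreach, hi⟩ := hok
  have hi' : i < 1408 := by simpa using hi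
  set u := ev (gen6 x y s) ((sgnW (i / 64)).take (i % 64)) with hu
  set t := tau certA (gen6 x y s) ω with ht
  set z := ev (gen6 x y s) (sgnW (i / 64)) with hz
  have hel : t⁻¹ * ev (gen6 x y s) (iwT i) * t = (u * t)⁻¹ * z * (u * t) := by
    rw [ev_iwT_rot, ← hu, ← hz]; group
  rw [hel]
  have h128 : i / 64 / 2 = i / 128 := by rw [Nat.div_div_eq_div_mul]
  by_cases h6 : i / 128 < 6
  · -- exact relators
    have hz1 : z = 1 := by
      rcases ev_sgnW x y s (i / 64) with h | h
      · rw [hz, h, h128, rel_exact Lf.hx Lf.hy Lf.hyx Lf.hs Lf.hsy _ h6]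
      · rw [hz, h, h128, rel_exact Lf.hx Lf.hy Lf.hyx Lf.hs Lf.hsy _ h6, inv_one]
    have hil : ilA ω i = 0 := by
      unfold ilA
      rw [if_pos (show Nat.blt (Nat.div i 128) 6 = true from (Nat.blt_eq).mpr h6)]
    rw [hz1, hil]
    have : (u * t)⁻¹ * 1 * (u * t) = 1 := by group
    rw [this]
    exact repW_one _
  · -- relators with unknown values
    have hr11 : i / 128 < 11 := by omega
    obtain ⟨r, hr⟩ : ∃ r, i / 128 = 6 + r := ⟨i / 128 - 6, by omega⟩
    have hr5 : r < 5 := by omega
    have hmem : ev (gen6 x y s) (relW (6 + r)) ∈ N := Lf.rel_mem (by omega)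
    have hzm : z = tw θ (avec H x y s r) := by
      rw [avec_spec H x y s hmem]
      rcases ev_sgnW x y s (i / 64) with h | h
      · rw [hz, h, h128, hr]
      · rw [hz, h, h128, hr, ← avec_spec H x y s hmem, tw_inv]
    set c := pmul (wcode ((sgnW (i / 64)).take (i % 64))) (gwf 12 ω) with hc
    have hlt : ∀ l ∈ (sgnW (i / 64)).take (i % 64), l < 6 :=
      fun l hl => sgnW_lt6 _ l (List.mem_of_mem_take hl)
    have hC : IsC (proj N φ (u * t)) c := by
      rw [map_mul]
      exact (isC_ev (proj N φ) Lf.πx Lf.πy Lf.πs _ hlt).mul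
        (isC_tau (proj N φ) Lf.πx Lf.πy Lf.πs certA rfl rfl 12 ω hreach)
    have hil : ilA ω i = unitL r (fun p => aget c p) := by
      unfold ilA
      rw [if_neg (show ¬ Nat.blt (Nat.div i 128) 6 = true from fun hh => h6 ((Nat.blt_eq).mp hh)),
        force_eq]
      show unitL ((i / 128) - 6) (fun p => aget c p) = unitL r (fun p => aget c p)
      rw [hr, Nat.add_sub_cancel_left]
    unfold RepW
    rw [hzm, hil]
    apply tw_conj H
    intro p hp
    by_cases h23 : p < 23
    · have hq : aget c p < 23 := isC_aget_lt23 hC (proj_mem N φ _) h23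
      rw [hC.apply hp, idx_pt _ (by omega), vecN_testBit _ _ h23, blk_unitL _ hr5 h23,
        Nat.mod_eq_of_lt hq, dotE_unit _ hr5 hq]
    · have : p = 23 := by omega
      subst this
      rw [fix_none (proj_mem N φ _), idx_pt 23 (by norm_num), vecN_testBit_ge _ _ le_rfl,
        testBit_ge_of_lt (avec_lt H x y s r) le_rfl]

open Cfsg.Agent.Lib.Helper5.M23Coh.V in
/-- the group side of the labelled complex -/
noncomputable def modelW (Lf : Lifts N φ x y s) : Model certA (gen6 x y s) where
  gen_inv := gen6_inv x y s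
  β := beta x y
  β_zero := beta_zero x y
  β_mul := fun a b _ _ => beta_mul Lf.hx Lf.hy Lf.hyx a b
  β_x := beta_one x y
  β_y := beta_23 x y
  Rep := RepW θ (avec H x y s)
  rep_one := by rw [certA_zero]; exact repW_one _
  rep_mul := fun ha hb => by rw [certA_add]; exact repW_mul ha hb
  rep_inv := fun ha => repW_inv ha
  rep_tw := fun b hb ha => by rw [certA_tw]; exact repW_tw H Lf b hb ha
  rep_beq := fun {a L M} h ha => by
    rw [certA_beq] at h
    have : M = L := Nat.eq_of_beq_eq_true h
    rw [this]; exact ha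
  lab_zero := by rw [certA_lab, certA_zero]; exact chkA_lab0
  rep_inst := fun ω i hok => by
    rw [certA_iok] at hok
    rw [certA_il, certA_iw]
    exact repW_inst H Lf ω i hok

end

end Cfsg.Agent.Lib.Helper5.M23Coh.W
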