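import Cfsg.Agent.Lib.Helper5.M23Coh.VModel
import Cfsg.Agent.Lib.Helper5.M23Coh.ChkW

/-!
# An extension of `M23` by its cocode module: the labelled complex
-/

set_option autoImplicit false

namespace Cfsg.Agent.Lib.Helper5.M23Coh.W

open Cfsg Cfsg.Agent.Lib.Helper6.Golay Cfsg.Agent.H9.NatPerm Cfsg.Agent.Lib.Helper5.M23Coh

/-- the word with the values of the blocks of a label at the five unknown words -/
def vecN (a : ℕ → ℕ) (L : ℕ) : ℕ := Nat.ofBits (fun p : Fin 23 => dotE a (blk L p))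

theorem vecN_testBit (a : ℕ → ℕ) (L : ℕ) {p : ℕ} (hp : p < 23) :
    Nat.testBit (vecN a L) p = dotE a (blk L p) := Nat.testBit_ofBits_lt _ p hp

theorem vecN_lt (a : ℕ → ℕ) (L : ℕ) : vecN a L < 2 ^ 23 := Nat.ofBits_lt_two_pow _

theorem testBit_ge_of_lt {v : ℕ} (hv : v < 2 ^ 23) {p : ℕ} (hp : 23 ≤ p) : Nat.testBit v p = false :=
  Nat.testBit_lt_two_pow (lt_of_lt_of_le hv (Nat.pow_le_pow_right (by norm_num) hp))

theorem vecN_testBit_ge (a : ℕ → ℕ) (L : ℕ) {p : ℕ} (hp : 23 ≤ p) :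
    Nat.testBit (vecN a L) p = false := testBit_ge_of_lt (vecN_lt a L) hp

theorem vecN_zero (a : ℕ → ℕ) : vecN a 0 = 0 := by
  apply Nat.eq_of_testBit_eq
  intro i
  rw [Nat.zero_testBit]
  by_cases hi : i < 23
  · rw [vecN_testBit a 0 hi, blk_zero, dotE_zero]
  · exact vecN_testBit_ge a 0 (by omega)

theorem vecN_xor (a : ℕ → ℕ) (L M : ℕ) : vecN a (L ^^^ M) = vecN a L ^^^ vecN a M := by
  apply Nat.eq_of_testBit_eq
  intro i
  rw [Nat.testBit_xor]
  by_cases hi : i < 23
  · rw [vecN_testBit a _ hi, vecN_testBit a _ hi, vecN_testBit a _ hi, blk_xor, dotE_xor]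
  · rw [vecN_testBit_ge a _ (by omega), vecN_testBit_ge a _ (by omega),
      vecN_testBit_ge a _ (by omega)]
    rfl

theorem dotE_kw_aux (a : ℕ → ℕ) (h L : ℕ) : ∀ l : List ℕ, (∀ p ∈ l, p < 23) →
    dotE a (l.foldr (fun p acc => if Nat.testBit h p then Nat.xor (blk L p) acc else acc) 0) =
      l.foldr (fun q acc => xor (Nat.testBit (Nat.land h (vecN a L)) q) acc) false
  | [], _ => dotE_zero a
  | q :: l, hl => by
    have ih := dotE_kw_aux a h L l (fun p hp => hl p (List.mem_cons_of_mem _ hp))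
    have hq : q < 23 := hl q List.mem_cons_self
    simp only [List.foldr_cons]
    have e : Nat.testBit (Nat.land h (vecN a L)) q = (Nat.testBit h q && dotE a (blk L q)) := by
      show Nat.testBit (h &&& vecN a L) q = _
      rw [Nat.testBit_and, vecN_testBit a L hq]
    rw [e, ← ih]
    by_cases hb : Nat.testBit h q = true
    · rw [if_pos hb, hb, Bool.true_and]
      show dotE a (blk L q ^^^ _) = _
      rw [dotE_xor]
    · rw [if_neg hb]
      rw [Bool.not_eq_true] at hb
      rw [hb, Bool.false_and, Bool.false_xor]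

/-- the value of the sum of the blocks at the points of a word -/
theorem dotE_kw (a : ℕ → ℕ) (h L : ℕ) : dotE a (kw h L) = par23 (Nat.land h (vecN a L)) := by
  unfold kw par23
  exact dotE_kw_aux a h L _ (fun p hp => List.mem_range.mp hp)

/-- a word as a number -/
def enc (w : GolayPt → ZMod 2) : ℕ := Nat.ofBits (fun i : Fin 24 => decide (w (pt i) = 1))

theorem enc_lt (w : GolayPt → ZMod 2) : enc w < 2 ^ 24 := Nat.ofBits_lt_two_pow _

theorem dec_enc (w : GolayPt → ZMod 2) : dec (enc w) = w := by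
  funext p
  rw [dec_apply]
  unfold enc
  rw [Nat.testBit_ofBits_lt _ _ (idx_lt p)]
  show (if decide (w (pt (idx p)) = 1) = true then (1 : ZMod 2) else 0) = w p
  rw [pt_idx]
  have h01 : ∀ z : ZMod 2, z = 0 ∨ z = 1 := by decide
  rcases h01 (w p) with h | h
  · rw [h]; simp
  · rw [h]; simp

theorem pt_23 : (pt 23 : GolayPt) = none := by decide

theorem dec_inf : dec (2 ^ 23) = Pi.single none 1 := by
  funext p
  rw [dec_apply, Nat.testBit_two_pow]
  by_cases h : p = none
  · subst h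
    have : idx (none : GolayPt) = 23 := rfl
    rw [this, Pi.single_eq_same]
    simp
  · rw [Pi.single_eq_of_ne h]
    have h23 : 23 ≠ idx p := by
      intro h23
      apply h
      have := pt_idx p
      rw [← h23, pt_23] at this
      exact this.symm
    simp [h23]

theorem fix_none {g : Equiv.Perm GolayPt} (hg : g ∈ Spor.M23) : g (pt 23) = pt 23 := by
  rw [pt_23]
  have : g ∈ MulAction.stabilizer (Equiv.Perm GolayPt) (none : GolayPt) := hg.2
  rwa [MulAction.mem_stabilizer_iff] at this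

section
variable {E : Type*} [Group E] (N : Subgroup E) [hN : N.Normal] (φ : E ⧸ N ≃* ↥Spor.M23)
  (θ : (GolayPt → ZMod 2) →+ Additive ↥N)

/-- the hypotheses on the module structure -/
structure HypW : Prop where
  hsurj : Function.Surjective θ
  hker : ∀ w : GolayPt → ZMod 2, θ w = 0 ↔ (w ∈ golayCode ∨ w + Pi.single none 1 ∈ golayCode)
  hθ : ∀ (g : E) (w : GolayPt → ZMod 2),
    ((θ (w ∘ ⇑(proj N φ g)⁻¹)).toMul : E) = g * ((θ w).toMul : E) * g⁻¹

end

section
variable {E : Type*} [Group E] {N : Subgroup E} [hN : N.Normal] {φ : E ⧸ N ≃* ↥Spor.M23}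
  (θ : (GolayPt → ZMod 2) →+ Additive ↥N)

/-- the element of the normal subgroup attached to a word given as a number -/
def tw (a : ℕ) : E := ((θ (dec a)).toMul : E)

theorem tw_mem (a : ℕ) : tw θ a ∈ N := (θ (dec a)).toMul.2

theorem tw_xor (a b : ℕ) : tw θ (a ^^^ b) = tw θ a * tw θ b := by
  unfold tw
  rw [dec_xor, map_add, toMul_add, Subgroup.coe_mul]

theorem tw_zero : tw θ 0 = 1 := by
  unfold tw
  rw [dec_zero, map_zero, toMul_zero, Subgroup.coe_one]

theorem tw_sq (a : ℕ) : tw θ a * tw θ a = 1 := by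
  rw [← tw_xor, Nat.xor_self, tw_zero]

theorem tw_inv (a : ℕ) : (tw θ a)⁻¹ = tw θ a := inv_eq_of_mul_eq_one_left (tw_sq θ a)

theorem tw_eq_of_xor {a b : ℕ} (h : tw θ (a ^^^ b) = 1) : tw θ a = tw θ b := by
  rw [tw_xor] at h
  rw [← tw_inv θ b]
  exact eq_inv_of_mul_eq_one_left h

theorem tw_eq_one_iff_theta (a : ℕ) : tw θ a = 1 ↔ θ (dec a) = 0 := by
  unfold tw
  constructor
  · intro h
    have h' : (θ (dec a)).toMul = 1 := Subtype.ext h
    exact h'
  · intro h
    rw [h]; rfl

variable {θ} (H : HypW N φ θ)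

include H in
theorem tw_eq_one_iff' (a : ℕ) :
    tw θ a = 1 ↔ (dec a ∈ golayCode ∨ dec a + Pi.single none 1 ∈ golayCode) := by
  rw [tw_eq_one_iff_theta, H.hker]

include H in
theorem tw_eq_one_iff {a : ℕ} (ha : a < 2 ^ 24) :
    tw θ a = 1 ↔ (inCode a = true ∨ inCode (a ^^^ 2 ^ 23) = true) := by
  rw [tw_eq_one_iff' H, ← dec_inf, ← dec_xor, dec_mem_golayCode_iff a ha,
    dec_mem_golayCode_iff _ (Nat.xor_lt_two_pow ha (by norm_num))]

include H in
theorem tw_inf : tw θ (2 ^ 23) = 1 := by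
  rw [tw_eq_one_iff' H]
  right
  rw [dec_inf]
  have : (Pi.single none 1 : GolayPt → ZMod 2) + Pi.single none 1 = 0 := by
    funext p
    exact CharTwo.add_self_eq_zero _
  rw [this]
  exact zero_mem _

include H in
theorem exists_tw0 {n : E} (hn : n ∈ N) : ∃ a < 2 ^ 24, tw θ a = n := by
  obtain ⟨w, hw⟩ := H.hsurj (Additive.ofMul ⟨n, hn⟩)
  refine ⟨enc w, enc_lt w, ?_⟩
  unfold tw
  rw [dec_enc, hw]
  rfl

include H in
theorem exists_tw {n : E} (hn : n ∈ N) : ∃ a < 2 ^ 23, tw θ a = n := by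
  obtain ⟨a, ha, rfl⟩ := exists_tw0 H hn
  by_cases hb : Nat.testBit a 23 = true
  · refine ⟨a ^^^ 2 ^ 23, ?_, ?_⟩
    · apply Nat.lt_pow_two_of_testBit
      intro i hi
      rw [Nat.testBit_xor, Nat.testBit_two_pow]
      rcases Nat.lt_or_ge 23 i with h | h
      · rw [Nat.testBit_lt_two_pow (lt_of_lt_of_le ha (Nat.pow_le_pow_right (by norm_num) h))]
        have : ¬ (23 = i) := by omega
        simp [this]
      · have : i = 23 := by omega
        rw [this, hb]
        simp
    · rw [tw_xor, tw_inf H, mul_one]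
  · rw [Bool.not_eq_true] at hb
    refine ⟨a, ?_, rfl⟩
    apply Nat.lt_pow_two_of_testBit
    intro i hi
    rcases Nat.lt_or_ge 23 i with h | h
    · exact Nat.testBit_lt_two_pow (lt_of_lt_of_le ha (Nat.pow_le_pow_right (by norm_num) h))
    · have : i = 23 := by omega
      rw [this]; exact hb

include H in
theorem sq_eq_one' : ∀ n ∈ N, n * n = 1 := by
  intro n hn
  obtain ⟨a, _, rfl⟩ := exists_tw0 H hn
  exact tw_sq θ a

include H in
/-- the conjugates of the elements of the normal subgroup -/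
theorem tw_conj (g : E) {a a' : ℕ}
    (h : ∀ p < 24, Nat.testBit a' p = Nat.testBit a (idx (proj N φ g (pt p)))) :
    g⁻¹ * tw θ a * g = tw θ a' := by
  have h1 := H.hθ g⁻¹ (dec a)
  rw [inv_inv] at h1
  have e : dec a ∘ ⇑(proj N φ g⁻¹)⁻¹ = dec a' := by
    funext p
    rw [Function.comp_apply, map_inv, inv_inv, dec_apply, dec_apply]
    have := h (idx p) (idx_lt p)
    rw [pt_idx] at this
    rw [this]
  rw [e] at h1
  exact h1.symm

end

end Cfsg.Agent.Lib.Helper5.M23Coh.W
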